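import Mathlib
import Cfsg.Agent.Lib.LocalEven.PGV.Basic
import Cfsg.Agent.Lib.LocalEven.PGV.Setup

/-!
A `p`-minimal linear group generated by any two suitably placed conjugates of a minimal offender `A`:
the setting and its elementary consequences (quadratic action, fixed spaces of conjugates).
-/

set_option autoImplicit false

namespace CfsgLib.LocalEven.OffenderSL2

open CfsgLib.LocalEven.PGV

universe v

variable {W : Type v} [AddCommGroup W] {p : ℕ} {P M T A : Subgroup (Γ W)}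

/-- The setting: `T` is a `p`-subgroup of `M < P` to which the `p`-subgroups of `M` are conjugate
into, `A ≤ T` is a minimal offender, some fixed point of `T` has its stabiliser in `M`, and `A`
generates `P` with each conjugate by an element outside `M`. -/
structure Setup (p : ℕ) (P M T A : Subgroup (Γ W)) : Prop where
  hp : ∀ w : W, p • w = 0
  AT : A ≤ T
  TM : T ≤ M
  MP : M ≤ P
  ne : M ≠ P
  el : Cfsg.IsElementaryAbelian p A
  hT : IsPGroup p T
  syl : ∀ R ≤ M, IsPGroup p R → ∃ m ∈ M, R ≤ cj m T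
  off : Nat.card W ≤ Nat.card A * Nat.card (fix A)
  strict : ∀ B ≤ A, B ≠ ⊥ → B ≠ A → Nat.card B * Nat.card (fix B) < Nat.card A * Nat.card (fix A)
  vec : ∃ v ∈ fix T, v ∉ fix P ∧ ∀ g ∈ P, g • v = v → g ∈ M
  gen : ∀ x ∈ P, x ∉ M → A ⊔ cj x A = P

theorem mem_fix_cj {g : Γ W} {w : W} : w ∈ fix (cj g A) ↔ g⁻¹ • w ∈ fix A := by
  constructor
  · intro h a ha
    rw [eq_inv_smul_iff, ← mul_smul]
    have e := h _ (conj_mem_cj (c := g) ha)
    calc (g * a) • g⁻¹ • w = (g * a * g⁻¹) • w := (mul_smul _ _ _).symm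
      _ = w := e
  · intro h a ha
    have e := h _ (mem_cj.1 ha)
    rw [← mul_smul, show g⁻¹ * a * g * g⁻¹ = g⁻¹ * a by group, mul_smul] at e
    exact MulAction.injective g⁻¹ e

theorem smul_mem_fix_cj {g : Γ W} {w : W} (hw : w ∈ fix A) : g • w ∈ fix (cj g A) := by
  rw [mem_fix_cj, inv_smul_smul]; exact hw

theorem cj_mono' {g : Γ W} {H K : Subgroup (Γ W)} (h : H ≤ K) : cj g H ≤ cj g K := Subgroup.map_mono h

theorem cj_le {g : Γ W} {H K : Subgroup (Γ W)} (hg : g ∈ K) (h : H ≤ K) : cj g H ≤ K := fun x hx => by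
  have e : x = g * (g⁻¹ * x * g) * g⁻¹ := by group
  rw [e]
  exact mul_mem (mul_mem hg (h (mem_cj.1 hx))) (inv_mem hg)

theorem cj_eq_self {g : Γ W} {K : Subgroup (Γ W)} (hg : g ∈ K) : cj g K = K := by
  refine le_antisymm (cj_le hg le_rfl) fun x hx => mem_cj.2 ?_
  exact mul_mem (mul_mem (inv_mem hg) hx) hg

theorem card_cj (g : Γ W) (H : Subgroup (Γ W)) : Nat.card (cj g H) = Nat.card H :=
  (Nat.card_congr (H.equivMapOfInjective _ (MulAut.conj g).injective).toEquiv).symm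

/-- A `p`-group fixes a nontrivial point of `U` modulo `D`. -/
theorem exists_fixed_mod [Finite W] [Fact p.Prime] (hp : ∀ w : W, p • w = 0) {X : Subgroup (Γ W)}
    (hX : IsPGroup p X) {D U : AddSubgroup W} (hD : ∀ x ∈ X, ∀ d ∈ D, x • d ∈ D)
    (hU : ∀ x ∈ X, ∀ u ∈ U, x • u ∈ U) (hne : ¬ U ≤ D) :
    ∃ u ∈ U, u ∉ D ∧ ∀ x ∈ X, x • u - u ∈ D := by
  classical
  set S : AddSubgroup (W ⧸ D) := U.map (QuotientAddGroup.mk' D) with hS
  let f : X → (W ⧸ D) →+ (W ⧸ D) := fun x =>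
    QuotientAddGroup.map D D (DistribSMul.toAddMonoidHom W (x : Γ W)) fun d hd => hD x x.2 d hd
  have hf : ∀ (x : X) (w : W), f x (w : W ⧸ D) = (((x : Γ W) • w : W) : W ⧸ D) := fun x w => rfl
  have hfS : ∀ x, ∀ q ∈ S, f x q ∈ S := by
    rintro x _ ⟨u, hu, rfl⟩
    exact ⟨(x : Γ W) • u, hU x x.2 u hu, rfl⟩
  letI : MulAction X S :=
    { smul := fun x q => ⟨f x q, hfS x q q.2⟩
      one_smul := fun q => by
        obtain ⟨w, hw⟩ := QuotientAddGroup.mk_surjective (q : W ⧸ D)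
        apply Subtype.ext
        show f 1 (q : W ⧸ D) = q
        rw [← hw, hf, OneMemClass.coe_one, one_smul]
      mul_smul := fun x y q => by
        obtain ⟨w, hw⟩ := QuotientAddGroup.mk_surjective (q : W ⧸ D)
        apply Subtype.ext
        show f (x * y) (q : W ⧸ D) = f x (f y q)
        rw [← hw, hf, hf, hf, Subgroup.coe_mul, mul_smul] }
  obtain ⟨u₀, hu₀, hu₀D⟩ := SetLike.not_le_iff_exists.1 hne
  have hdvd : p ∣ Nat.card S := by
    let s₀ : S := ⟨(u₀ : W ⧸ D), u₀, hu₀, rfl⟩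
    have h1 : p • s₀ = 0 := by
      apply Subtype.ext
      rw [AddSubgroup.coe_nsmul, ← QuotientAddGroup.mk_nsmul, hp]; rfl
    have h2 : s₀ ≠ 0 := fun h => hu₀D ((QuotientAddGroup.eq_zero_iff _).1 (congrArg Subtype.val h))
    rw [← addOrderOf_eq_prime h1 h2]
    exact addOrderOf_dvd_natCard s₀
  have h0 : (0 : S) ∈ MulAction.fixedPoints X S := fun x => Subtype.ext (map_zero (f x))
  obtain ⟨q, hq, hq0⟩ := hX.exists_fixed_point_of_prime_dvd_card_of_fixed_point S hdvd h0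
  obtain ⟨u, hu, he⟩ := q.2
  refine ⟨u, hu, fun hD' => hq0 (Subtype.ext ?_), fun x hx => ?_⟩
  · rw [← he]; exact ((QuotientAddGroup.eq_zero_iff u).2 hD').symm
  · have := congrArg Subtype.val (hq ⟨x, hx⟩)
    change f ⟨x, hx⟩ (q : W ⧸ D) = q at this
    rw [← he] at this
    exact (QuotientAddGroup.eq_iff_sub_mem).1 this

namespace Setup

variable (h : Setup p P M T A)
include h

theorem TP : T ≤ P := h.TM.trans h.MP

theorem AP : A ≤ P := h.AT.trans h.TP

theorem AM : A ≤ M := h.AT.trans h.TM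

theorem exists_outside : ∃ x ∈ P, x ∉ M :=
  SetLike.not_le_iff_exists.1 fun hle => h.ne (le_antisymm h.MP hle)

theorem A_ne_bot : A ≠ ⊥ := by
  obtain ⟨x, hx, hxM⟩ := h.exists_outside
  rintro rfl
  have e := h.gen x hx hxM
  rw [cj, Subgroup.map_bot, bot_sup_eq] at e
  rw [← e, Subgroup.mem_bot] at hx
  exact hxM (hx ▸ M.one_mem)

theorem smul_eq_of_mem_fix {g : Γ W} (hg : g ∈ P) {z : W} (hz : z ∈ fix P) : g • z = z := hz g hg

theorem fix_le (g : Γ W) (hg : g ∈ P) : fix P ≤ fix (cj g A) := fix_mono (cj_le hg h.AP)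

/-- Fixed spaces of two conjugates generating `P` meet in the fixed space of `P`. -/
theorem fix_inter {g k : Γ W} (hg : g ∈ P) (hk : k ∈ P) (hgk : g⁻¹ * k ∉ M) {w : W}
    (hw₁ : w ∈ fix (cj g A)) (hw₂ : w ∈ fix (cj k A)) : w ∈ fix P := by
  have h1 : g⁻¹ • w ∈ fix (A ⊔ cj (g⁻¹ * k) A) := by
    rw [fix_sup]
    refine ⟨mem_fix_cj.1 hw₁, mem_fix_cj.2 ?_⟩
    rw [mul_inv_rev, inv_inv, mul_smul, smul_inv_smul]
    exact mem_fix_cj.1 hw₂
  rw [h.gen _ (mul_mem (inv_mem hg) hk) hgk] at h1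
  have e : g • g⁻¹ • w = g⁻¹ • w := h.smul_eq_of_mem_fix hg h1
  rw [smul_inv_smul] at e
  rwa [e]

theorem fix_inter_one {k : Γ W} (hk : k ∈ P) (hkM : k ∉ M) {w : W}
    (hw₁ : w ∈ fix A) (hw₂ : w ∈ fix (cj k A)) : w ∈ fix P :=
  h.fix_inter (one_mem P) hk (by rwa [inv_one, one_mul]) (by rwa [cj_one]) hw₂

/-- An element fixing a non-central fixed point of `A` modulo `fix P` lies in `M`. -/
theorem mem_M {g : Γ W} (hg : g ∈ P) {n : W} (hn : n ∈ fix A) (hnZ : n ∉ fix P)
    (hgn : g • n - n ∈ fix P) : g ∈ M := by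
  by_contra hgM
  refine hnZ ?_
  have h1 : g • n ∈ fix A := by
    rw [← sub_add_cancel (g • n) n]
    exact add_mem (fix_mono h.AP hgn) hn
  have h2 := h.fix_inter_one hg hgM h1 (smul_mem_fix_cj hn)
  simpa using sub_mem h2 hgn

/-- `A` acts quadratically. -/
theorem quadratic [Fact p.Prime] [Finite W] {a b : Γ W} (ha : a ∈ A) (hb : b ∈ A) (w : W) :
    b • (a • w - w) = a • w - w := by
  have hbest : Best A := by
    intro B hB
    by_cases hB0 : B = ⊥
    · subst hB0
      refine le_trans ?_ h.off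
      rw [Subgroup.card_bot, one_mul]
      exact Nat.card_le_card_of_injective _ Subtype.val_injective
    · by_cases hBA : B = A
      · rw [hBA]
      · exact (h.strict B hB hB0 hBA).le
  obtain ⟨e, -, hne⟩ := quad_spec h.hp h.el hbest h.A_ne_bot
  have hq : quad A = A := by
    by_contra hne'
    exact absurd e (h.strict _ (quad_le A) hne hne').ne
  exact quad_fixes (hq.symm ▸ hb) ha (com_mem a w)

theorem sub_mem_fix [Fact p.Prime] [Finite W] {a : Γ W} (ha : a ∈ A) (w : W) :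
    a • w - w ∈ fix A := fun _ hb => h.quadratic ha hb w

theorem sub_mem_fix_cj [Fact p.Prime] [Finite W] {g b : Γ W} (hb : b ∈ cj g A) (w : W) :
    b • w - w ∈ fix (cj g A) := by
  rw [mem_fix_cj, smul_sub]
  have e : g⁻¹ • b • w = (g⁻¹ * b * g) • g⁻¹ • w := by
    rw [← mul_smul, ← mul_smul]; congr 1; group
  rw [e]
  exact h.sub_mem_fix (mem_cj.1 hb) _

theorem mul_sub [Fact p.Prime] [Finite W] {g a b : Γ W} (ha : a ∈ cj g A) (hb : b ∈ cj g A) (w : W) :
    (a * b) • w - w = (a • w - w) + (b • w - w) := by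
  have e := h.sub_mem_fix_cj hb w a ha
  rw [smul_sub, sub_eq_iff_eq_add] at e
  rw [mul_smul, e]
  abel

/-- Every element of `P` moves `W` into `fix A + fix Aˣ`. -/
theorem sub_mem_sup [Fact p.Prime] [Finite W] {x : Γ W} (hx : x ∈ P) (hxM : x ∉ M) {g : Γ W}
    (hg : g ∈ P) (w : W) : g • w - w ∈ fix A ⊔ fix (cj x A) := by
  let S : Subgroup (Γ W) :=
    { carrier := {g | ∀ w : W, g • w - w ∈ fix A ⊔ fix (cj x A)}
      one_mem' := fun w => by simp
      mul_mem' := fun {a b} ha hb w => by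
        have e : (a * b) • w - w = (a • b • w - b • w) + (b • w - w) := by rw [mul_smul]; abel
        rw [e]
        exact add_mem (ha _) (hb w)
      inv_mem' := fun {a} ha w => by
        have e : a⁻¹ • w - w = -(a • a⁻¹ • w - a⁻¹ • w) := by rw [smul_inv_smul]; abel
        rw [e]
        exact neg_mem (ha _) }
  have hle : A ⊔ cj x A ≤ S :=
    sup_le (fun a ha w => AddSubgroup.mem_sup_left (h.sub_mem_fix ha w))
      (fun a ha w => AddSubgroup.mem_sup_right (h.sub_mem_fix_cj ha w))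
  exact hle ((h.gen x hx hxM).symm ▸ hg) w

end Setup

end CfsgLib.LocalEven.OffenderSL2
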