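import Mathlib
import Cfsg.Agent.Lib.LocalEven.OffenderSL2.Basic

/-!
In the setting of a generating minimal offender, `A` meets no conjugate of `M` by an element outside
`M`: otherwise a nontrivial proper subgroup of `A` would be an offender as good as `A`.
-/

set_option autoImplicit false

namespace CfsgLib.LocalEven.OffenderSL2.Setup

open CfsgLib.LocalEven.PGV

universe v

variable {W : Type v} [AddCommGroup W] {p : ℕ} {P M T A : Subgroup (Γ W)}
variable (h : Setup p P M T A)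
include h

theorem cj_eq_of_mem_P {g : Γ W} (hg : g ∈ P) : cj g P = P := cj_eq_self hg

/-- `A` is in no conjugate of `M` by an element outside `M`. -/
theorem not_le_cj {g : Γ W} (hg : g ∈ P) (hgM : g ∉ M) : ¬ A ≤ cj g M := by
  intro hle
  have h1 : P ≤ cj g M := by
    rw [← h.gen g hg hgM]
    exact sup_le hle (cj_mono' h.AM)
  refine h.ne (le_antisymm h.MP fun x hx => ?_)
  have e := mem_cj.1 (h1 (mul_mem (mul_mem hg hx) (inv_mem hg)))
  rwa [show g⁻¹ * (g * x * g⁻¹) * g = x by group] at e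

variable [Fact p.Prime] [Finite W]

/-- The map `b ↦ [u, b]` modulo `N`, for `b` in a conjugate of `A`. -/
def comMap (g : Γ W) (u : W) (N : AddSubgroup W) : Additive (cj g A) →+ W ⧸ N where
  toFun b := (((b.toMul : Γ W) • u - u : W) : W ⧸ N)
  map_zero' := by simp
  map_add' a b := by
    rw [toMul_add, Subgroup.coe_mul, h.mul_sub a.toMul.2 b.toMul.2, QuotientAddGroup.mk_add]

theorem comMap_apply (g : Γ W) (u : W) (N : AddSubgroup W) (b : Additive (cj g A)) :
    h.comMap g u N b = (((b.toMul : Γ W) • u - u : W) : W ⧸ N) := rfl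

/-- `A` meets no conjugate of `M` by an element outside `M`. -/
theorem inf_cj_eq_bot {g : Γ W} (hg : g ∈ P) (hgM : g ∉ M) : A ⊓ cj g M = ⊥ := by
  classical
  haveI : Finite (Γ W) := inferInstance
  obtain ⟨g₀, ⟨hg₀, hg₀M⟩, hmax⟩ := Set.exists_max_image {x : Γ W | x ∈ P ∧ x ∉ M}
    (fun x => Nat.card ↥(A ⊓ cj x M)) (Set.toFinite _) ⟨g, hg, hgM⟩
  suffices hY : A ⊓ cj g₀ M = ⊥ by
    rw [← Subgroup.card_eq_one]
    refine le_antisymm ((hmax g ⟨hg, hgM⟩).trans ?_) Nat.card_pos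
    rw [hY, Subgroup.card_bot]
  set Y := A ⊓ cj g₀ M with hYdef
  by_contra hY
  -- replace `g₀` by `k` in the same coset with `Y ≤ Tᵏ`
  have hR : cj g₀⁻¹ Y ≤ M := fun x hx => by
    have := mem_cj.1 ((mem_cj.1 hx : g₀⁻¹⁻¹ * x * g₀⁻¹ ∈ Y)).2
    rwa [show g₀⁻¹ * (g₀⁻¹⁻¹ * x * g₀⁻¹) * g₀ = x by group] at this
  obtain ⟨m, hm, hmY⟩ := h.syl _ hR (((h.hT.to_le h.AT).to_le inf_le_left).map _)
  set k := g₀ * m with hk
  have hkP : k ∈ P := mul_mem hg₀ (h.MP hm)
  have hkM : k ∉ M := fun e => hg₀M (by simpa [hk] using mul_mem e (inv_mem hm))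
  have hYk : Y ≤ cj k T := fun x hx => by
    have e : g₀⁻¹ * x * g₀ ∈ cj g₀⁻¹ Y := by
      refine mem_cj.2 ?_
      rw [show g₀⁻¹⁻¹ * (g₀⁻¹ * x * g₀) * g₀⁻¹ = x by group]; exact hx
    have := mem_cj.1 (hmY e)
    refine mem_cj.2 ?_
    rw [hk, show (g₀ * m)⁻¹ * x * (g₀ * m) = m⁻¹ * (g₀⁻¹ * x * g₀) * m by group]
    exact this
  have hkY : A ⊓ cj k M = Y := by rw [hYdef, hk, cj_mul, cj_eq_self hm]
  set N := fix A with hN
  set L := fix (cj k A) with hL
  have hNL : ∀ w, w ∈ N → w ∈ L → w ∈ fix P := fun w hw hw' => h.fix_inter_one hkP hkM hw hw'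
  -- the part of `L` fixed by `Y` modulo `fix P`
  let D : AddSubgroup W :=
    { carrier := {l | l ∈ L ∧ ∀ y ∈ Y, y • l - l ∈ fix P}
      zero_mem' := ⟨zero_mem _, fun y _ => by simp⟩
      add_mem' := fun {a b} ha hb => ⟨add_mem ha.1 hb.1, fun y hy => by
        rw [smul_add, add_sub_add_comm]; exact add_mem (ha.2 y hy) (hb.2 y hy)⟩
      neg_mem' := fun {a} ha => ⟨neg_mem ha.1, fun y hy => by
        rw [smul_neg, neg_sub_neg, ← neg_sub]; exact neg_mem (ha.2 y hy)⟩ }
  set X := Y ⊔ cj k A with hX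
  have hXT : X ≤ cj k T := sup_le hYk (cj_mono' h.AT)
  have hXp : IsPGroup p X := (h.hT.map _).to_le hXT
  have hXP : X ≤ P := hXT.trans (cj_le hkP h.TP)
  have hU : ∀ x ∈ X, ∀ u ∈ N ⊔ L, x • u ∈ N ⊔ L := fun x hx u hu => by
    rw [← sub_add_cancel (x • u) u]; exact add_mem (h.sub_mem_sup hkP hkM (hXP hx) u) hu
  have hD : ∀ x ∈ X, ∀ d ∈ D, x • d ∈ D := by
    let S : Subgroup (Γ W) :=
      { carrier := {x | x ∈ P ∧ ∀ d ∈ D, x • d - d ∈ fix P}
        one_mem' := ⟨one_mem _, fun d _ => by simp⟩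
        mul_mem' := fun {a b} ha hb => ⟨mul_mem ha.1 hb.1, fun d hd => by
          have e : (a * b) • d - d = a • (b • d - d) + (a • d - d) := by rw [mul_smul, smul_sub]; abel
          rw [e, h.smul_eq_of_mem_fix ha.1 (hb.2 d hd)]
          exact add_mem (hb.2 d hd) (ha.2 d hd)⟩
        inv_mem' := fun {a} ha => ⟨inv_mem ha.1, fun d hd => by
          have e : a⁻¹ • d - d = -(a⁻¹ • (a • d - d)) := by rw [smul_sub, inv_smul_smul]; abel
          rw [e, h.smul_eq_of_mem_fix (inv_mem ha.1) (ha.2 d hd)]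
          exact neg_mem (ha.2 d hd)⟩ }
    have hle : X ≤ S := sup_le (fun y hy => ⟨hXP (Subgroup.mem_sup_left hy), fun d hd => hd.2 y hy⟩)
      (fun b hb => ⟨hXP (Subgroup.mem_sup_right hb), fun d hd => by rw [hd.1 b hb, sub_self]; exact zero_mem _⟩)
    intro x hx d hd
    have h1 := (hle hx).2 d hd
    have hz : ∀ z ∈ fix P, z ∈ D := fun z hz => ⟨h.fix_le k hkP hz, fun y hy => by
      rw [h.smul_eq_of_mem_fix (h.AP (inf_le_left (a := A) hy)) hz, sub_self]; exact zero_mem _⟩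
    rw [← sub_add_cancel (x • d) d]; exact add_mem (hz _ h1) hd
  obtain ⟨v, hvT, hvP, hvM⟩ := h.vec
  have hvA : v ∈ N := fix_mono h.AT hvT
  have hne : ¬ N ⊔ L ≤ D := fun hle =>
    hvP (hNL v hvA (hle (AddSubgroup.mem_sup_left hvA)).1)
  obtain ⟨u, hu, huD, hufix⟩ := exists_fixed_mod h.hp hXp hD hU hne
  obtain ⟨n, hn, l, hl, rfl⟩ := AddSubgroup.mem_sup.1 hu
  have hlD : l ∈ D := ⟨hl, fun y hy => by
    have e : y • (n + l) - (n + l) = y • l - l := by
      rw [smul_add, hn y (inf_le_left (a := A) hy)]; abel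
    have h1 : y • l - l ∈ L := e ▸ (hufix y (Subgroup.mem_sup_left hy)).1
    exact hNL _ (h.sub_mem_fix (inf_le_left (a := A) hy) l) h1⟩
  have hnD : n ∉ D := fun hnD => huD (add_mem hnD hlD)
  have hnP : n ∉ fix P := fun hnP => hnD ⟨h.fix_le k hkP hnP, fun y hy => by
      rw [h.smul_eq_of_mem_fix (h.AP (inf_le_left (a := A) hy)) hnP, sub_self]; exact zero_mem _⟩
  -- the conjugates of `Y` under `Aᵏ` lie in `M`
  set B := cj k A with hB
  have hBP : B ≤ P := cj_le hkP h.AP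
  set R := Subgroup.closure {x : Γ W | ∃ b ∈ B, ∃ y ∈ Y, x = b⁻¹ * y * b} with hR'
  have hRM : R ≤ M := by
    refine (Subgroup.closure_le _).2 ?_
    rintro _ ⟨b, hb, y, hy, rfl⟩
    have hyP : y ∈ P := h.AP hy.1
    refine h.mem_M (mul_mem (mul_mem (inv_mem (hBP hb)) hyP) (hBP hb)) hn hnP ?_
    have hd : b • n - n ∈ D := by
      have e : b • (n + l) - (n + l) = b • n - n := by rw [smul_add, hl b hb]; abel
      exact e ▸ hufix b (Subgroup.mem_sup_right hb)
    have h1 := hd.2 y hy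
    rw [smul_sub, hn y hy.1] at h1
    have e : (b⁻¹ * y * b) • n - n = b⁻¹ • (y • b • n - n - (b • n - n)) := by
      rw [sub_sub_sub_cancel_right, smul_sub, inv_smul_smul, mul_smul, mul_smul]
    rw [e, h.smul_eq_of_mem_fix (inv_mem (hBP hb)) h1]
    exact h1
  have hRX : R ≤ X := by
    refine (Subgroup.closure_le _).2 ?_
    rintro _ ⟨b, hb, y, hy, rfl⟩
    exact mul_mem (mul_mem (inv_mem (Subgroup.mem_sup_right hb)) (Subgroup.mem_sup_left hy))
      (Subgroup.mem_sup_right hb)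
  obtain ⟨m', hm', hRm⟩ := h.syl R hRM (hXp.to_le hRX)
  set n₁ := m' • v with hn₁
  have hfixR : ∀ r ∈ R, r • n₁ = n₁ := fun r hr => by
    have e := hvT _ (mem_cj.1 (hRm hr))
    rw [mul_smul, mul_smul, inv_smul_eq_iff] at e
    exact e
  -- the commutators of `n₁` with `Aᵏ` are fixed by `Y`
  have hcY : ∀ b ∈ B, b • n₁ - n₁ ∈ fix Y := by
    intro b hb y hy
    have e1 : y • n₁ = n₁ := hfixR y (Subgroup.subset_closure ⟨1, one_mem _, y, hy, by group⟩)
    have e2 : y • b • n₁ = b • n₁ := by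
      have e3 := hfixR _ (Subgroup.subset_closure ⟨b, hb, y, hy, rfl⟩)
      rw [mul_smul, mul_smul, inv_smul_eq_iff] at e3
      exact e3
    rw [smul_sub, e2, e1]
  have hcL : ∀ b ∈ B, b • n₁ - n₁ ∈ L := fun b hb => h.sub_mem_fix_cj hb _
  -- count
  let φ := h.comMap k n₁ N
  have hker : Nat.card φ.ker ≤ Nat.card Y := by
    have hinj : ∀ b : φ.ker, ((b : Additive B).toMul : Γ W) ∈ B ⊓ M := fun b => by
      refine ⟨(b : Additive B).toMul.2, ?_⟩
      have hz := b.2
      rw [AddMonoidHom.mem_ker, h.comMap_apply, QuotientAddGroup.eq_zero_iff] at hz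
      set c := ((b : Additive B).toMul : Γ W)
      have hzP := hNL _ hz (hcL c (b : Additive B).toMul.2)
      have hcP : c ∈ P := hBP (b : Additive B).toMul.2
      by_contra hcM
      have hm'P := h.MP hm'
      have h2 : m'⁻¹ * c * m' ∈ M := by
        refine h.mem_M (mul_mem (mul_mem (inv_mem hm'P) hcP) hm'P) hvA hvP ?_
        have e : (m'⁻¹ * c * m') • v - v = m'⁻¹ • (c • n₁ - n₁) := by
          rw [smul_sub, hn₁, inv_smul_smul, mul_smul, mul_smul]
        rw [e, h.smul_eq_of_mem_fix (inv_mem hm'P) hzP]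
        exact hzP
      refine hcM ?_
      simpa [mul_assoc] using mul_mem (mul_mem hm' h2) (inv_mem hm')
    calc Nat.card φ.ker ≤ Nat.card ↥(B ⊓ M) :=
          Nat.card_le_card_of_injective (fun b => ⟨_, hinj b⟩) fun b c hbc => Subtype.ext
            (Additive.toMul.injective (Subtype.ext (congrArg (fun x : ↥(B ⊓ M) => (x : Γ W)) hbc)))
      _ = Nat.card ↥(A ⊓ cj k⁻¹ M) := by
          rw [← card_cj k⁻¹ (B ⊓ M)]
          congr 1
          have : cj k⁻¹ (B ⊓ M) = A ⊓ cj k⁻¹ M := by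
            rw [hB]; ext x
            simp only [mem_cj, Subgroup.mem_inf]
            rw [show k⁻¹ * (k⁻¹⁻¹ * x * k⁻¹) * k = x by group]
          rw [this]
      _ ≤ Nat.card Y := hmax k⁻¹ ⟨inv_mem hkP, fun e => hkM (by simpa using inv_mem e)⟩
  have hrange : φ.range ≤ (fix Y).map (QuotientAddGroup.mk' N) := by
    rintro _ ⟨b, rfl⟩
    exact ⟨_, hcY _ b.toMul.2, rfl⟩
  have hNY : N ≤ fix Y := fix_mono inf_le_left
  have hfixY : Nat.card φ.range * Nat.card N ≤ Nat.card (fix Y) := by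
    refine le_trans (Nat.mul_le_mul_right _ (AddSubgroup.card_le_of_le hrange)) (le_of_eq ?_)
    rw [AddSubgroup.card_eq_card_quotient_mul_card_addSubgroup (N.addSubgroupOf (fix Y)),
      Nat.card_congr (AddSubgroup.addSubgroupOfEquivOfLe hNY).toEquiv]
    congr 1
    have e2 : ((QuotientAddGroup.mk' N).comp (fix Y).subtype).range =
        (fix Y).map (QuotientAddGroup.mk' N) := by
      rw [AddMonoidHom.range_comp, AddSubgroup.range_subtype]
    have e3 : ((QuotientAddGroup.mk' N).comp (fix Y).subtype).ker = N.addSubgroupOf (fix Y) := by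
      rw [← AddMonoidHom.comap_ker, QuotientAddGroup.ker_mk']; rfl
    rw [← e2, ← AddSubgroup.index_ker, e3]
    rfl
  have hA : Nat.card A = Nat.card φ.range * Nat.card φ.ker := by
    rw [← card_cj k A, ← Nat.card_congr (Additive.ofMul (α := B)).symm,
      AddSubgroup.card_eq_card_quotient_mul_card_addSubgroup φ.ker]
    congr 1
    exact Nat.card_congr (QuotientAddGroup.quotientKerEquivRange φ).toEquiv
  have hYA : Y ≠ A := fun e => h.not_le_cj hg₀ hg₀M (e ▸ inf_le_right (b := cj g₀ M))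
  have hlt := h.strict Y inf_le_left hY hYA
  refine absurd hlt (not_lt.2 ?_)
  calc Nat.card A * Nat.card (fix A) = Nat.card φ.ker * (Nat.card φ.range * Nat.card N) := by
        show Nat.card A * Nat.card N = _
        rw [hA]; ring
    _ ≤ Nat.card Y * Nat.card (fix Y) := Nat.mul_le_mul hker hfixY

end CfsgLib.LocalEven.OffenderSL2.Setup
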