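import Mathlib
import Cfsg.Agent.Lib.LocalEven.OffenderSL2.Regular

/-!
The fixed spaces of the conjugates of a generating minimal offender form a spread modulo the fixed space
of the whole group.
-/

set_option autoImplicit false

namespace CfsgLib.LocalEven.OffenderSL2.Setup

open CfsgLib.LocalEven.PGV

universe v

variable {W : Type v} [AddCommGroup W] {p : ℕ} {P M T A : Subgroup (Γ W)}
variable (h : Setup p P M T A) [Fact p.Prime] [Finite W]
include h

theorem eq_one_or_not_mem {g a : Γ W} (hg : g ∈ P) (hgM : g ∉ M) (ha : a ∈ A) :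
    a = 1 ∨ g⁻¹ * a * g ∉ M := by
  by_contra hc
  rw [not_or, not_not] at hc
  exact hc.1 (Subgroup.mem_bot.1 (h.inf_cj_eq_bot hg hgM ▸ ⟨ha, mem_cj.2 hc.2⟩))

/-- A nontrivial element of `A` moves every non-central point of a conjugate fixed space modulo
`fix P`. -/
theorem eq_one_of_sub_mem {g a : Γ W} (hg : g ∈ P) (hgM : g ∉ M) (ha : a ∈ A) {w : W}
    (hw : w ∈ fix (cj g A)) (hwP : w ∉ fix P) (haw : a • w - w ∈ fix P) : a = 1 := by
  rcases h.eq_one_or_not_mem hg hgM ha with e | hn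
  · exact e
  exfalso
  have h1 : a • w ∈ fix (cj g A) := by
    rw [← sub_add_cancel (a • w) w]; exact add_mem (h.fix_le g hg haw) hw
  have h2 : a • w ∈ fix (cj (a * g) A) := by
    rw [mem_fix_cj, mul_inv_rev, mul_smul, inv_smul_smul]; exact mem_fix_cj.1 hw
  have h3 := h.fix_inter hg (mul_mem (h.AP ha) hg) (by rwa [← mul_assoc]) h1 h2
  exact hwP (by simpa using sub_mem h3 haw)

theorem fix_le_self : fix P ≤ fix A := fix_mono h.AP

/-- A fixed point of `Aᵍ` outside `fix P`. -/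
theorem exists_mem_fix_cj {g : Γ W} (hg : g ∈ P) : ∃ w ∈ fix (cj g A), w ∉ fix P := by
  obtain ⟨v, hvT, hvP, -⟩ := h.vec
  refine ⟨g • v, smul_mem_fix_cj (fix_mono h.AT hvT), fun hh => hvP ?_⟩
  have e : g • g • v = g • v := h.smul_eq_of_mem_fix hg hh
  rwa [← MulAction.injective g e]

theorem card_fix_cj (g : Γ W) : Nat.card (fix (cj g A)) = Nat.card (fix A) :=
  Nat.card_congr
    { toFun := fun w => ⟨g⁻¹ • (w : W), mem_fix_cj.1 w.2⟩
      invFun := fun w => ⟨g • (w : W), smul_mem_fix_cj w.2⟩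
      left_inv := fun w => Subtype.ext (smul_inv_smul g (w : W))
      right_inv := fun w => Subtype.ext (inv_smul_smul g (w : W)) }

/-- The map `a ↦ [w, a]` from `A` to `fix A` modulo `fix P`. -/
def comFix (w : W) : Additive A →+ ↥(fix A) ⧸ (fix P).addSubgroupOf (fix A) where
  toFun a := ((⟨(a.toMul : Γ W) • w - w, h.sub_mem_fix a.toMul.2 w⟩ : fix A) :
    ↥(fix A) ⧸ (fix P).addSubgroupOf (fix A))
  map_zero' := (QuotientAddGroup.eq_zero_iff _).2 (by simp [AddSubgroup.mem_addSubgroupOf])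
  map_add' a b := by
    rw [← QuotientAddGroup.mk_add]
    congr 1
    apply Subtype.ext
    show ((a + b).toMul : Γ W) • w - w = _
    rw [toMul_add, Subgroup.coe_mul, h.mul_sub (g := 1) (by rw [cj_one]; exact a.toMul.2)
      (by rw [cj_one]; exact b.toMul.2)]
    rfl

theorem comFix_eq {w : W} {a : Additive A} {n : fix A}
    (he : h.comFix w a = (n : ↥(fix A) ⧸ (fix P).addSubgroupOf (fix A))) :
    (a.toMul : Γ W) • w - w - n ∈ fix P :=
  show (((⟨(a.toMul : Γ W) • w - w, h.sub_mem_fix a.toMul.2 w⟩ - n : fix A)) : W) ∈ fix P from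
    (QuotientAddGroup.eq_iff_sub_mem (N := (fix P).addSubgroupOf (fix A))).1 he

theorem comFix_injective {k : Γ W} (hk : k ∈ P) (hkM : k ∉ M) {w : W} (hw : w ∈ fix (cj k A))
    (hwP : w ∉ fix P) : Function.Injective (h.comFix w) := by
  refine (injective_iff_map_eq_zero _).2 fun a ha => ?_
  have := h.eq_one_of_sub_mem hk hkM a.toMul.2 hw hwP (by simpa using h.comFix_eq (n := 0) ha)
  exact Additive.toMul.injective (Subtype.ext this)

theorem card_quot : Nat.card (fix A) =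
    Nat.card (↥(fix A) ⧸ (fix P).addSubgroupOf (fix A)) * Nat.card (fix P) := by
  rw [AddSubgroup.card_eq_card_quotient_mul_card_addSubgroup ((fix P).addSubgroupOf (fix A)),
    Nat.card_congr (AddSubgroup.addSubgroupOfEquivOfLe h.fix_le_self).toEquiv]

theorem fix_inf {k : Γ W} (hk : k ∈ P) (hkM : k ∉ M) : fix A ⊓ fix (cj k A) = fix P :=
  le_antisymm (fun _ hw => h.fix_inter_one hk hkM hw.1 hw.2) (le_inf h.fix_le_self (h.fix_le k hk))

/-- The three orders. -/
theorem cards {k : Γ W} (hk : k ∈ P) (hkM : k ∉ M) :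
    Nat.card (fix A) = Nat.card A * Nat.card (fix P) ∧ fix A ⊔ fix (cj k A) = ⊤ := by
  obtain ⟨w, hw, hwP⟩ := h.exists_mem_fix_cj hk
  have h1 : Nat.card A * Nat.card (fix P) ≤ Nat.card (fix A) := by
    rw [h.card_quot]
    refine Nat.mul_le_mul_right _ ?_
    rw [← Nat.card_congr (Additive.ofMul (α := A)).symm]
    exact Nat.card_le_card_of_injective _ (h.comFix_injective hk hkM hw hwP)
  have h2 := addCard_mul (fix A) (fix (cj k A))
  rw [h.fix_inf hk hkM, h.card_fix_cj k] at h2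
  set n := Nat.card (fix A)
  set a := Nat.card A
  set z := Nat.card (fix P)
  have hsW : Nat.card ↥(fix A ⊔ fix (cj k A)) ≤ Nat.card W :=
    Nat.card_le_card_of_injective _ Subtype.val_injective
  have hn : 0 < n := Nat.card_pos
  have hoff : Nat.card W ≤ a * n := h.off
  have h3 : n ≤ a * z := by
    refine Nat.le_of_mul_le_mul_right ?_ hn
    calc n * n = Nat.card ↥(fix A ⊔ fix (cj k A)) * z := h2
      _ ≤ a * n * z := Nat.mul_le_mul_right _ (hsW.trans hoff)
      _ = a * z * n := by ring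
  have h4 : n = a * z := le_antisymm h3 h1
  refine ⟨h4, AddSubgroup.eq_top_of_le_card _ (Nat.le_of_mul_le_mul_right ?_ (Nat.card_pos (α := fix P)))⟩
  calc Nat.card W * z ≤ a * n * z := Nat.mul_le_mul_right _ hoff
    _ = n * n := by rw [h4]; ring
    _ = _ := h2

/-- `[w, A]` covers `fix A` modulo `fix P`. -/
theorem exists_com {k : Γ W} (hk : k ∈ P) (hkM : k ∉ M) {w : W} (hw : w ∈ fix (cj k A))
    (hwP : w ∉ fix P) {n : W} (hn : n ∈ fix A) : ∃ a ∈ A, a • w - w - n ∈ fix P := by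
  have hbij : Function.Bijective (h.comFix w) := by
    refine (Nat.bijective_iff_injective_and_card _).2 ⟨h.comFix_injective hk hkM hw hwP, ?_⟩
    have := h.card_quot
    rw [(h.cards hk hkM).1] at this
    rw [← Nat.eq_of_mul_eq_mul_right Nat.card_pos this]
    exact Nat.card_congr Additive.toMul
  obtain ⟨a, ha⟩ := hbij.2 ((⟨n, hn⟩ : fix A) : ↥(fix A) ⧸ _)
  exact ⟨(a.toMul : Γ W), a.toMul.2, h.comFix_eq (n := ⟨n, hn⟩) ha⟩

/-- Every point outside `fix A` lies in the fixed space of some conjugate `A^(ak)` modulo `fix A`. -/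
theorem exists_cover {k : Γ W} (hk : k ∈ P) (hkM : k ∉ M) {x : W} (hx : x ∉ fix A) :
    ∃ a ∈ A, x ∈ fix (cj (a * k) A) := by
  have hxt : x ∈ fix A ⊔ fix (cj k A) := (h.cards hk hkM).2.symm ▸ AddSubgroup.mem_top x
  obtain ⟨n, hn, l, hl, rfl⟩ := AddSubgroup.mem_sup.1 hxt
  have hlP : l ∉ fix P := fun hlP => hx (add_mem hn (h.fix_le_self hlP))
  obtain ⟨a, ha, han⟩ := h.exists_com hk hkM hl hlP hn
  refine ⟨a, ha, ?_⟩
  have e : n + l = a • l - (a • l - l - n) := by abel
  rw [e]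
  refine sub_mem ?_ (h.fix_le _ (mul_mem (h.AP ha) hk) han)
  rw [mem_fix_cj, mul_inv_rev, mul_smul, inv_smul_smul]
  exact mem_fix_cj.1 hl

/-- `M` stabilises `fix A`. -/
theorem smul_mem_fix {m : Γ W} (hm : m ∈ M) {n : W} (hn : n ∈ fix A) : m • n ∈ fix A := by
  obtain ⟨k, hk, hkM⟩ := h.exists_outside
  have hmP := h.MP hm
  by_contra hx
  obtain ⟨a, ha, hxa⟩ := h.exists_cover hk hkM hx
  refine hx (h.fix_le_self (h.fix_inter hmP (mul_mem (h.AP ha) hk) (fun e => hkM ?_)
    (smul_mem_fix_cj hn) hxa))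
  have := mul_mem (inv_mem (h.AM ha)) (mul_mem hm e)
  simpa [mul_assoc] using this

/-- The conjugates by elements outside `M` are permuted regularly by `A`. -/
theorem exists_class {k g : Γ W} (hk : k ∈ P) (hkM : k ∉ M) (hg : g ∈ P) (hgM : g ∉ M) :
    ∃ a ∈ A, ∀ w ∈ fix (cj g A), w ∈ fix (cj (a * k) A) := by
  obtain ⟨x, hx, hxP⟩ := h.exists_mem_fix_cj hg
  have hxA : x ∉ fix A := fun hxA => hxP (h.fix_inter_one hg hgM hxA hx)
  obtain ⟨a, ha, hxa⟩ := h.exists_cover hk hkM hxA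
  refine ⟨a, ha, fun w hw => ?_⟩
  have hm : g⁻¹ * (a * k) ∈ M := by
    by_contra hm
    exact hxP (h.fix_inter hg (mul_mem (h.AP ha) hk) hm hx hxa)
  rw [mem_fix_cj] at hw ⊢
  have e : (a * k)⁻¹ • w = (g⁻¹ * (a * k))⁻¹ • g⁻¹ • w := by
    rw [← mul_smul]; congr 1; group
  rw [e]
  exact h.smul_mem_fix (inv_mem hm) hw

end CfsgLib.LocalEven.OffenderSL2.Setup
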