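import Mathlib
import Cfsg.Agent.Lib.LocalEven.OffenderSL2.Spread
import Cfsg.Agent.Lib.Spread91.Comm
import Cfsg.Agent.Lib.Classif.SpreadFieldMain

/-!
The spread set of a generating minimal offender is a field of endomorphisms of a fixed space modulo
`fix P`.
-/

set_option autoImplicit false

namespace CfsgLib.LocalEven.OffenderSL2

open CfsgLib.LocalEven.PGV

universe v

/-- An additive subgroup of endomorphisms of a finite group of exponent `p`, of the same order,
containing `1` and closed under inversion, is commutative and closed under multiplication. -/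
theorem divSet_field {Q : Type v} [AddCommGroup Q] [Finite Q] [Nontrivial Q] {p : ℕ} [hp : Fact p.Prime]
    (hQ : ∀ x : Q, p • x = 0) {J : AddSubgroup (AddMonoid.End Q)} (hJ : CfsgLib.Spread91.IsDivSet J)
    (hcard : Nat.card J = Nat.card Q) {a b : AddMonoid.End Q} (ha : a ∈ J) (hb : b ∈ J) :
    a * b = b * a ∧ a * b ∈ J := by
  classical
  by_cases h2 : p = 2
  · subst h2
    letI : Module (ZMod 2) Q := AddCommGroup.zmodModule hQ
    let bas := Module.finBasis (ZMod 2) Q
    set n := Module.finrank (ZMod 2) Q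
    let Φ : AddMonoid.End Q →+* Matrix (Fin n) (Fin n) (ZMod 2) :=
      { toFun := fun f => LinearMap.toMatrixAlgEquiv bas (AddMonoidHom.toZModLinearMap 2 f)
        map_one' := by rw [show AddMonoidHom.toZModLinearMap 2 (1 : AddMonoid.End Q) = (1 : Module.End (ZMod 2) Q)
          from rfl, map_one]
        map_mul' := fun f g => by rw [← map_mul]; rfl
        map_zero' := by rw [show AddMonoidHom.toZModLinearMap 2 (0 : AddMonoid.End Q) = (0 : Module.End (ZMod 2) Q)
          from rfl, map_zero]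
        map_add' := fun f g => by rw [← map_add]; rfl }
    have hΦ : Function.Injective Φ := fun f g h => DFunLike.ext _ _ fun x =>
      LinearMap.congr_fun ((LinearMap.toMatrixAlgEquiv bas).injective h) x
    let J' : Submodule (ZMod 2) (Matrix (Fin n) (Fin n) (ZMod 2)) :=
      AddSubgroup.toZModSubmodule 2 (J.map (Φ : AddMonoid.End Q →+ Matrix (Fin n) (Fin n) (ZMod 2)))
    have hmem : ∀ {x}, x ∈ J' ↔ ∃ f ∈ J, Φ f = x := fun {x} => Iff.rfl
    have hsp : CfsgLib.SpreadField.IsSpread J' :=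
      { one := hmem.2 ⟨1, hJ.one, map_one Φ⟩
        unit := fun x hx h0 => by
          obtain ⟨f, hf, rfl⟩ := hmem.1 hx
          exact (hJ.isUnit hf fun e => h0 (by rw [e, map_zero])).map Φ
        inv := fun x hx y hxy => by
          obtain ⟨f, hf, rfl⟩ := hmem.1 hx
          have hn : 0 < n := Module.finrank_pos
          haveI : Nonempty (Fin n) := ⟨⟨0, hn⟩⟩
          obtain ⟨g, hg, hfg, hgf⟩ := hJ.inv f hf fun e => one_ne_zero (α := Matrix (Fin n) (Fin n) (ZMod 2)) (by
            rw [← hxy, e, map_zero, zero_mul])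
          refine hmem.2 ⟨g, hg, ?_⟩
          calc Φ g = Φ g * (Φ f * y) := by rw [hxy, mul_one]
            _ = y := by rw [← mul_assoc, ← map_mul, hgf, map_one, one_mul]
        card := by
          have h1 : Nat.card J' = Nat.card Q := by
            rw [← hcard]
            exact (Nat.card_congr (J.equivMapOfInjective _ hΦ).toEquiv).symm
          rw [Module.natCard_eq_pow_finrank (K := ZMod 2) (V := J'),
            Module.natCard_eq_pow_finrank (K := ZMod 2) (V := Q), Nat.card_eq_fintype_card, ZMod.card] at h1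
          rw [Fintype.card_fin]
          exact Nat.pow_right_injective le_rfl h1 }
    haveI : Nonempty (Fin n) := ⟨⟨0, Module.finrank_pos⟩⟩
    obtain ⟨e1, e2⟩ := hsp.commute (hmem.2 ⟨a, ha, rfl⟩) (hmem.2 ⟨b, hb, rfl⟩)
    obtain ⟨f, hf, e3⟩ := hmem.1 e2
    rw [← map_mul] at e3
    refine ⟨hΦ (by rw [map_mul, map_mul]; exact e1), ?_⟩
    rwa [← hΦ e3]
  · obtain ⟨m, hm⟩ : ∃ m, p = 2 * m + 1 := hp.out.odd_of_ne_two h2
    have hp0 : (p : AddMonoid.End Q) = 0 :=
      AddMonoidHom.ext fun x => (AddMonoid.End.natCast_apply p x).trans (hQ x)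
    have hcomm := CfsgLib.Spread91.IsDivSet.comm h2 hp0 J hJ
    exact ⟨hcomm a ha b hb, hJ.mul_mem_of_commute hm hp0 ha hb (hcomm a ha b hb)⟩

namespace Setup

variable {W : Type v} [AddCommGroup W] {p : ℕ} {P M T A : Subgroup (Γ W)}
variable (h : Setup p P M T A) [Fact p.Prime] [Finite W]

/-- `fix (Aᵏ)` modulo `fix P`. -/
abbrev Lq (_ : Setup p P M T A) (k : Γ W) : Type v :=
  ↥(fix (cj k A)) ⧸ (fix P).addSubgroupOf (fix (cj k A))

/-- `fix A` modulo `fix P`. -/
abbrev Nq (_ : Setup p P M T A) : Type v := ↥(fix A) ⧸ (fix P).addSubgroupOf (fix A)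

include h

/-- The map `[·, a]` from `fix (Aᵏ)` to `fix A` modulo `fix P`. -/
def phi (k : Γ W) (a : A) : h.Lq k →+ h.Nq :=
  QuotientAddGroup.map _ _
    { toFun := fun l => (⟨(a : Γ W) • (l : W) - l, h.sub_mem_fix a.2 l⟩ : fix A)
      map_zero' := Subtype.ext (by simp)
      map_add' := fun x y => Subtype.ext (by
        show (a : Γ W) • ((x : W) + y) - ((x : W) + y) = _
        rw [smul_add]; exact add_sub_add_comm _ _ _ _) }
    fun z hz => by
      show (a : Γ W) • (z : W) - z ∈ fix P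
      rw [show (a : Γ W) • (z : W) = z from hz _ (h.AP a.2), sub_self]; exact zero_mem _

theorem phi_mk (k : Γ W) (a : A) (l : fix (cj k A)) :
    h.phi k a (l : h.Lq k) = ((⟨(a : Γ W) • (l : W) - l, h.sub_mem_fix a.2 l⟩ : fix A) : h.Nq) := rfl

/-- The map `[·, b]` from `fix A` to `fix (Aᵏ)` modulo `fix P`. -/
def psi {k : Γ W} (hk : k ∈ P) (b : cj k A) : h.Nq →+ h.Lq k :=
  QuotientAddGroup.map _ _
    { toFun := fun n => (⟨(b : Γ W) • (n : W) - n, h.sub_mem_fix_cj b.2 n⟩ : fix (cj k A))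
      map_zero' := Subtype.ext (by simp)
      map_add' := fun x y => Subtype.ext (by
        show (b : Γ W) • ((x : W) + y) - ((x : W) + y) = _
        rw [smul_add]; exact add_sub_add_comm _ _ _ _) }
    fun z hz => by
      show (b : Γ W) • (z : W) - z ∈ fix P
      rw [show (b : Γ W) • (z : W) = z from hz _ (cj_le hk h.AP b.2), sub_self]; exact zero_mem _

theorem phi_mul (k : Γ W) (a b : A) : h.phi k (a * b) = h.phi k a + h.phi k b := by
  refine QuotientAddGroup.addMonoidHom_ext _ (AddMonoidHom.ext fun l => ?_)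
  show h.phi k (a * b) (l : h.Lq k) = h.phi k a (l : h.Lq k) + h.phi k b (l : h.Lq k)
  rw [phi_mk, phi_mk, phi_mk, ← QuotientAddGroup.mk_add]
  congr 1
  exact Subtype.ext (h.mul_sub (g := 1) (by rw [cj_one]; exact a.2) (by rw [cj_one]; exact b.2) _)

theorem psi_mul {k : Γ W} (hk : k ∈ P) (a b : cj k A) : h.psi hk (a * b) = h.psi hk a + h.psi hk b := by
  refine QuotientAddGroup.addMonoidHom_ext _ (AddMonoidHom.ext fun n => ?_)
  show ((⟨((a * b : cj k A) : Γ W) • (n : W) - n, _⟩ : fix (cj k A)) : h.Lq k) = _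
  refine Eq.trans ?_ (QuotientAddGroup.mk_add _ _ _)
  congr 1
  exact Subtype.ext (h.mul_sub a.2 b.2 _)

theorem mk_eq_zero {U : AddSubgroup W} (x : U) :
    ((x : U) : U ⧸ (fix P).addSubgroupOf U) = 0 ↔ (x : W) ∈ fix P := QuotientAddGroup.eq_zero_iff x

variable {k : Γ W} (hk : k ∈ P) (hkM : k ∉ M)
include hk hkM

theorem phi_eq_zero {a : A} {x : h.Lq k} (hx : x ≠ 0) (he : h.phi k a x = 0) : a = 1 := by
  obtain ⟨l, rfl⟩ := QuotientAddGroup.mk_surjective x
  rw [phi_mk, h.mk_eq_zero] at he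
  exact Subtype.ext (h.eq_one_of_sub_mem hk hkM a.2 l.2 (fun hl => hx ((h.mk_eq_zero l).2 hl)) he)

theorem card_Lq : Nat.card (h.Lq k) = Nat.card A ∧ Nat.card h.Nq = Nat.card A := by
  have h1 := (h.cards hk hkM).1
  have h2 : Nat.card (fix (cj k A)) = Nat.card (h.Lq k) * Nat.card (fix P) := by
    rw [AddSubgroup.card_eq_card_quotient_mul_card_addSubgroup ((fix P).addSubgroupOf (fix (cj k A))),
      Nat.card_congr (AddSubgroup.addSubgroupOfEquivOfLe (h.fix_le k hk)).toEquiv]
  have h3 := h.card_quot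
  rw [h.card_fix_cj k] at h2
  exact ⟨(Nat.eq_of_mul_eq_mul_right Nat.card_pos (h2.symm.trans h1)),
    Nat.eq_of_mul_eq_mul_right Nat.card_pos (h3.symm.trans h1)⟩

theorem nontrivial_Lq : Nontrivial (h.Lq k) := by
  obtain ⟨w, hw, hwP⟩ := h.exists_mem_fix_cj hk
  exact ⟨⟨((⟨w, hw⟩ : fix (cj k A)) : h.Lq k), 0, fun e => hwP ((h.mk_eq_zero _).1 e)⟩⟩

theorem phi_bijective {a : A} (ha : a ≠ 1) : Function.Bijective (h.phi k a) :=
  (Nat.bijective_iff_injective_and_card _).2
    ⟨(injective_iff_map_eq_zero _).2 fun x hx => by_contra fun hx0 => ha (h.phi_eq_zero hk hkM hx0 hx),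
      (h.card_Lq hk hkM).1.trans (h.card_Lq hk hkM).2.symm⟩

/-- Every nontrivial `b` inverts some `[·, a]`. -/
theorem exists_phi_psi {b : cj k A} (hb : b ≠ 1) : ∃ a : A, ∀ y, h.phi k a (h.psi hk b y) = y := by
  have hbP : (b : Γ W) ∈ P := cj_le hk h.AP b.2
  have hbM : (b : Γ W) ∉ M := fun hbM => by
    rcases h.eq_one_or_not_mem (g := k⁻¹) (inv_mem hk) (fun e => hkM (by simpa using inv_mem e))
      (mem_cj.1 b.2) with e | e
    · apply hb
      apply Subtype.ext
      calc (b : Γ W) = k * (k⁻¹ * b * k) * k⁻¹ := by group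
        _ = 1 := by rw [e]; group
    · exact e (by rwa [show k⁻¹⁻¹ * (k⁻¹ * (b : Γ W) * k) * k⁻¹ = b by group])
  obtain ⟨a, ha, hab⟩ := h.exists_class hk hkM hbP hbM
  refine ⟨⟨a, ha⟩, fun y => ?_⟩
  obtain ⟨⟨n, hn⟩, rfl⟩ := QuotientAddGroup.mk_surjective y
  refine (QuotientAddGroup.eq_iff_sub_mem (N := (fix P).addSubgroupOf (fix A))).2 ?_
  show a • ((b : Γ W) • n - n) - ((b : Γ W) • n - n) - n ∈ fix P
  set l := (b : Γ W) • n - n with hl
  have hlL : l ∈ fix (cj k A) := h.sub_mem_fix_cj b.2 n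
  have h1 := hab _ (smul_mem_fix_cj (g := (b : Γ W)) hn)
  rw [mem_fix_cj, mul_inv_rev, mul_smul] at h1
  set l' := a⁻¹ • (b : Γ W) • n with hl'
  have hl'L : l' ∈ fix (cj k A) := mem_fix_cj.2 h1
  have e1 : a • l' = n + l := by rw [hl', smul_inv_smul, hl]; abel
  have hz : l' - l ∈ fix P := by
    refine h.fix_inter_one hk hkM ?_ (sub_mem hl'L hlL)
    have e2 : l' - l = n - (a • l' - l') := by rw [e1]; abel
    rw [e2]
    exact sub_mem hn (h.sub_mem_fix ha l')
  have hz' := h.smul_eq_of_mem_fix (h.AP ha) hz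
  rw [smul_sub, e1] at hz'
  have e3 : a • l - l - n = -(l' - l) := by
    have e4 : a • l = n + l - (l' - l) := by
      conv_rhs => rw [← hz']
      abel
    rw [e4]; abel
  rw [e3]; exact neg_mem hz

end Setup

end CfsgLib.LocalEven.OffenderSL2
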