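import Mathlib
import Cfsg.Agent.Lib.LocalEven.OffenderSL2.FieldSet
import Cfsg.Agent.Lib.LocalEven.NaturalRecognition

/-!
Coordinates: the group generated by a minimal offender and its conjugates is `SL₂` of a field on its
natural module.
-/

set_option autoImplicit false

namespace CfsgLib.LocalEven.OffenderSL2.Setup

open CfsgLib.LocalEven.PGV CfsgLib.LocalEven.NaturalRecognition
open scoped MatrixGroups

universe v

variable {W : Type v} [AddCommGroup W] {p : ℕ} {P M T A : Subgroup (Γ W)}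

theorem mulVec_injective {F : Type*} [Field F] {s t : SL(2, F)}
    (h : ∀ v : Fin 2 → F, s.1.mulVec v = t.1.mulVec v) : s = t := by
  apply Subtype.ext
  ext i j
  have := congrFun (h (Pi.single j 1)) i
  simpa using this

theorem up_mulVec {F : Type*} [Field F] (t : F) (v : Fin 2 → F) :
    (up t).1.mulVec v = ![v 0 + t * v 1, v 1] := by
  ext i
  fin_cases i <;> simp [up_coe, Matrix.mulVec, dotProduct, Fin.sum_univ_two]

theorem lo_mulVec {F : Type*} [Field F] (t : F) (v : Fin 2 → F) :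
    (lo t).1.mulVec v = ![v 0, t * v 0 + v 1] := by
  ext i
  fin_cases i <;> simp [lo_coe, Matrix.mulVec, dotProduct, Fin.sum_univ_two]

variable (h : Setup p P M T A) [Fact p.Prime] [Finite W]
include h

/-- The recognition, with `A` in standard position. -/
theorem exists_coords' : ∃ (F : Type v) (_ : Field F) (_ : Fintype F) (ρ : ↥P ≃* SL(2, F))
    (ψ : W →+ (Fin 2 → F)), Fintype.card F = Nat.card A ∧ Function.Surjective ψ ∧
      (∀ w, ψ w = 0 ↔ w ∈ fix P) ∧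
      (∀ (g : P) (w : W), ψ ((g : Γ W) • w) = (ρ g).1.mulVec (ψ w)) ∧
      fix A = comA A ⊔ fix P ∧
      (∀ w, w ∈ fix A ↔ ψ w 1 = 0) ∧
      (∀ g : P, (g : Γ W) ∈ A → ∃ t, ρ g = up t) ∧ ∀ t, ∃ g : P, (g : Γ W) ∈ A ∧ ρ g = up t := by
  classical
  obtain ⟨k, hk, hkM⟩ := h.exists_outside
  haveI := h.nontrivial_Lq hk hkM
  haveI : Finite (h.Lq k) := inferInstance
  haveI : Finite (AddMonoid.End (h.Lq k)) := DFunLike.finite (h.Lq k →+ h.Lq k)
  letI : AddCommGroup (h.Lq k) := inferInstance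
  letI : Ring (AddMonoid.End (h.Lq k)) := inferInstance
  obtain ⟨cL, cN⟩ := h.card_Lq hk hkM
  have hp : ∀ x : h.Lq k, p • x = 0 := fun x => by
    obtain ⟨l, rfl⟩ := QuotientAddGroup.mk_surjective x
    rw [← QuotientAddGroup.mk_nsmul, show p • l = 0 from Subtype.ext (h.hp _)]; rfl
  -- an element of `A`
  obtain ⟨a₀, ha₀⟩ : ∃ a : A, a ≠ 1 := by
    haveI := (Subgroup.nontrivial_iff_ne_bot A).2 h.A_ne_bot
    exact exists_ne 1
  let θ := AddEquiv.ofBijective (h.phi k a₀) (h.phi_bijective hk hkM ha₀)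
  let jm := AddMonoidHom.mk'
    (fun a : Additive A => show AddMonoid.End (h.Lq k) from θ.symm.toAddMonoidHom.comp (h.phi k a.toMul))
    fun a b => by
      show θ.symm.toAddMonoidHom.comp (h.phi k (a + b).toMul) = _
      rw [toMul_add, h.phi_mul, AddMonoidHom.comp_add]
      rfl
  let km := AddMonoidHom.mk'
    (fun b : Additive (cj k A) => show AddMonoid.End (h.Lq k) from (h.psi hk b.toMul).comp θ.toAddMonoidHom)
    fun a b => by
      show (h.psi hk (a + b).toMul).comp θ.toAddMonoidHom = _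
      rw [toMul_add, h.psi_mul, AddMonoidHom.add_comp]
      rfl
  have hj : ∀ a x, θ (jm a x) = h.phi k a.toMul x := fun a x => θ.apply_symm_apply _
  have hk' : ∀ b x, km b x = h.psi hk b.toMul (θ x) := fun _ _ => rfl
  obtain ⟨e₀, he₀⟩ := exists_ne (0 : h.Lq k)
  have hjinj : Function.Injective jm := (injective_iff_map_eq_zero _).2 fun a ha => by
    have e : h.phi k a.toMul e₀ = 0 := by rw [← hj, ha]; exact map_zero θ
    exact Additive.toMul.injective (h.phi_eq_zero hk hkM he₀ e)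
  have h1 : jm (Additive.ofMul a₀) = 1 := AddMonoidHom.ext fun x => θ.symm_apply_apply x
  have hinv : ∀ b, b ≠ 0 → ∃ a, jm a * km b = 1 ∧ km b * jm a = 1 := fun b hb => by
    obtain ⟨a, ha⟩ := h.exists_phi_psi hk hkM (b := b.toMul) (fun e => hb (Additive.toMul.injective e))
    have e : jm (Additive.ofMul a) * km b = 1 := AddMonoidHom.ext fun x => by
      apply θ.injective
      show θ (jm (Additive.ofMul a) (km b x)) = θ x
      rw [hj, hk']; exact ha _
    exact ⟨_, e, mul_eq_one_comm.1 e⟩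
  have hne1 : (1 : AddMonoid.End (h.Lq k)) ≠ 0 := fun e => he₀ (DFunLike.congr_fun e e₀)
  have hkinj : Function.Injective km := (injective_iff_map_eq_zero _).2 fun b hb => by_contra fun hb0 => by
    obtain ⟨a, e, -⟩ := hinv b hb0
    rw [hb, mul_zero] at e
    exact hne1 e.symm
  set J := jm.range with hJ
  set K := km.range with hK
  have hcJ : Nat.card J = Nat.card A := by
    rw [← Nat.card_congr (AddMonoidHom.ofInjective hjinj).toEquiv]
    exact Nat.card_congr Additive.toMul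
  have hcK : Nat.card K = Nat.card A := by
    rw [← Nat.card_congr (AddMonoidHom.ofInjective hkinj).toEquiv, ← card_cj k A]
    exact Nat.card_congr Additive.toMul
  have hKinv : ∀ x ∈ K, x ≠ 0 → ∃ y ∈ J, x * y = 1 ∧ y * x = 1 := by
    rintro _ ⟨b, rfl⟩ hx
    obtain ⟨a, e1, e2⟩ := hinv b fun e => hx (by rw [e, map_zero])
    exact ⟨_, ⟨a, rfl⟩, e2, e1⟩
  have hJinv : ∀ y ∈ J, y ≠ 0 → ∃ x ∈ K, x * y = 1 ∧ y * x = 1 := by
    let f : K → J := fun x => if hx : (x : AddMonoid.End (h.Lq k)) = 0 then 0 else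
      ⟨_, (hKinv x x.2 hx).choose_spec.1⟩
    have hf : ∀ (x : K), (x : AddMonoid.End (h.Lq k)) ≠ 0 →
        (x : AddMonoid.End (h.Lq k)) * f x = 1 ∧ (f x : AddMonoid.End (h.Lq k)) * x = 1 := fun x hx => by
      simp only [f, dif_neg hx]; exact (hKinv x x.2 hx).choose_spec.2
    have hf0 : ∀ (x : K), (x : AddMonoid.End (h.Lq k)) = 0 → (f x : AddMonoid.End (h.Lq k)) = 0 :=
      fun x hx => by simp only [f, dif_pos hx]; rfl
    have hfi : Function.Injective f := by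
      intro x y hxy
      by_cases hx : (x : AddMonoid.End (h.Lq k)) = 0
      · by_contra hne
        have hy : (y : AddMonoid.End (h.Lq k)) ≠ 0 := fun hy => hne (Subtype.ext (hx.trans hy.symm))
        have := (hf y hy).1
        rw [← hxy, hf0 x hx, mul_zero] at this
        exact hne1 this.symm
      · by_cases hy : (y : AddMonoid.End (h.Lq k)) = 0
        · have := (hf x hx).1
          rw [hxy, hf0 y hy, mul_zero] at this
          exact absurd this.symm hne1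
        · apply Subtype.ext
          have e2 := (hf y hy).2
          rw [← hxy] at e2
          exact left_inv_eq_right_inv (hf x hx).1 e2
    have hfs := ((Nat.bijective_iff_injective_and_card f).2 ⟨hfi, hcK.trans hcJ.symm⟩).2
    intro y hy hy0
    obtain ⟨x, hx⟩ := hfs ⟨y, hy⟩
    have hx0 : (x : AddMonoid.End (h.Lq k)) ≠ 0 := fun e => hy0 (by
      have := hf0 x e; rwa [hx] at this)
    have := hf x hx0
    rw [hx] at this
    exact ⟨x, x.2, this⟩
  have h1J : (1 : AddMonoid.End (h.Lq k)) ∈ J := ⟨_, h1⟩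
  have h1K : (1 : AddMonoid.End (h.Lq k)) ∈ K := by
    obtain ⟨x, hx, e, -⟩ := hJinv 1 h1J hne1
    rw [mul_one] at e; rwa [e] at hx
  have hKJ : K = J := by
    refine AddSubgroup.eq_of_le_of_card_ge (fun b hb => ?_) (hcJ.trans hcK.symm).le
    by_cases hb0 : b = 0
    · rw [hb0]; exact zero_mem _
    by_cases hb1 : b = 1
    · rw [hb1]; exact h1J
    obtain ⟨c, hc, hbc, hcb⟩ := hKinv b hb hb0
    have hc1 : c - 1 ≠ 0 := fun e => hb1 (by rwa [sub_eq_zero.1 e, mul_one] at hbc)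
    obtain ⟨d, hd, hdc, -⟩ := hJinv (c - 1) (sub_mem hc h1J) hc1
    have e : (1 + d) * (1 - b) = 1 := by
      calc (1 + d) * (1 - b) = (1 + d) * ((c - 1) * b) := by rw [sub_mul c 1 b, hcb, one_mul]
        _ = ((c - 1) + d * (c - 1)) * b := by rw [← mul_assoc, add_mul 1 d, one_mul]
        _ = c * b := by rw [hdc, sub_add_cancel]
        _ = 1 := hcb
    have hd1 : 1 + d ≠ 0 := fun e0 => by rw [e0, zero_mul] at e; exact hne1 e.symm
    obtain ⟨y, hy, -, hye⟩ := hKinv (1 + d) (add_mem h1K hd) hd1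
    have e2 : y = 1 - b := left_inv_eq_right_inv hye e
    have e3 : b = 1 - y := by rw [e2, sub_sub_cancel]
    rw [e3]; exact sub_mem h1J hy
  have hdiv : CfsgLib.Spread91.IsDivSet J := ⟨h1J, fun x hx hx0 => by
    obtain ⟨y, hy, e1, e2⟩ := hJinv x hx hx0
    exact ⟨y, hKJ ▸ hy, e2, e1⟩⟩
  have hfld := fun {a b} => divSet_field hp hdiv (hcJ.trans cL.symm) (a := a) (b := b)
  let Fs : Subring (AddMonoid.End (h.Lq k)) :=
    { J with
      one_mem' := h1J
      mul_mem' := fun {a b} ha hb => (hfld ha hb).2 }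
  letI : CommRing Fs :=
    { (inferInstance : Ring Fs) with mul_comm := fun a b => Subtype.ext (hfld a.2 b.2).1 }
  haveI : Nontrivial Fs := ⟨⟨1, 0, fun e => hne1 (congrArg Subtype.val e)⟩⟩
  have hunit : ∀ x : Fs, x ≠ 0 → ∃ y : Fs, x * y = 1 := fun x hx => by
    obtain ⟨y, hy, e1, -⟩ := hdiv.inv (x : AddMonoid.End (h.Lq k)) x.2 fun e => hx (Subtype.ext e)
    exact ⟨⟨y, hy⟩, Subtype.ext e1⟩
  haveI : Fintype Fs := Fintype.ofFinite Fs
  letI : Field Fs := IsField.toField ⟨exists_pair_ne _, mul_comm, fun {x} hx => hunit x hx⟩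
  -- evaluation
  let ev : Fs →+ h.Lq k := AddMonoidHom.mk' (fun s => (s : AddMonoid.End (h.Lq k)) e₀) fun _ _ => rfl
  have hFcard : Nat.card Fs = Nat.card A := hcJ
  have hev : Function.Bijective ev := by
    refine (Nat.bijective_iff_injective_and_card _).2 ⟨(injective_iff_map_eq_zero _).2 fun s hs => ?_,
      hFcard.trans cL.symm⟩
    by_contra hs0
    obtain ⟨t, ht⟩ := hunit s hs0
    have ht' : t * s = 1 := by rw [mul_comm, ht]
    apply he₀
    calc e₀ = ((1 : Fs) : AddMonoid.End (h.Lq k)) e₀ := rfl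
      _ = (t : AddMonoid.End (h.Lq k)) (ev s) := by rw [← ht']; rfl
      _ = 0 := by rw [hs, map_zero]
  have hev_mul : ∀ s t : Fs, ev (s * t) = (s : AddMonoid.End (h.Lq k)) (ev t) := fun _ _ => rfl
  -- coordinates
  let Z := fix P
  let iN : h.Nq →+ W ⧸ Z := QuotientAddGroup.map _ Z (fix A).subtype fun _ hx => hx
  let iL : h.Lq k →+ W ⧸ Z := QuotientAddGroup.map _ Z (fix (cj k A)).subtype fun _ hx => hx
  let C : (Fin 2 → Fs) →+ W ⧸ Z := AddMonoidHom.mk' (fun v => iN (θ (ev (v 0))) + iL (ev (v 1)))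
    fun v v' => by simp only [Pi.add_apply, map_add]; abel
  have hC : Function.Bijective C := by
    constructor
    · refine (injective_iff_map_eq_zero C).2 fun v hv => ?_
      obtain ⟨n, hn⟩ := QuotientAddGroup.mk_surjective (θ (ev (v 0)))
      obtain ⟨l, hl⟩ := QuotientAddGroup.mk_surjective (ev (v 1))
      have e : iN (θ (ev (v 0))) + iL (ev (v 1)) = 0 := hv
      rw [← hn, ← hl] at e
      change ((((n : W)) + (l : W) : W) : W ⧸ Z) = 0 at e
      rw [QuotientAddGroup.eq_zero_iff] at e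
      have hnZ : (n : W) ∈ Z := by
        refine h.fix_inter_one hk hkM n.2 ?_
        simpa using sub_mem (h.fix_le k hk e) l.2
      have hlZ : (l : W) ∈ Z := by simpa using sub_mem e hnZ
      have e0 : θ (ev (v 0)) = 0 := hn ▸ (h.mk_eq_zero n).2 hnZ
      have e1 : ev (v 1) = 0 := hl ▸ (h.mk_eq_zero l).2 hlZ
      funext i
      fin_cases i
      · exact hev.1 ((θ.map_eq_zero_iff.1 e0).trans (map_zero ev).symm)
      · exact hev.1 (e1.trans (map_zero ev).symm)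
    · intro q
      obtain ⟨w, rfl⟩ := QuotientAddGroup.mk_surjective q
      obtain ⟨n, hn, l, hl, rfl⟩ := AddSubgroup.mem_sup.1
        ((h.cards hk hkM).2.symm ▸ AddSubgroup.mem_top w)
      obtain ⟨s, hs⟩ := hev.2 (θ.symm ((⟨n, hn⟩ : fix A) : h.Nq))
      obtain ⟨t, ht⟩ := hev.2 ((⟨l, hl⟩ : fix (cj k A)) : h.Lq k)
      refine ⟨![s, t], ?_⟩
      show iN (θ (ev (![s, t] 0))) + iL (ev (![s, t] 1)) = _
      rw [Matrix.cons_val_zero, Matrix.cons_val_one, Matrix.cons_val_zero, hs, ht, θ.apply_symm_apply]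
      rfl
  let Ce := AddEquiv.ofBijective C hC
  let ψ : W →+ (Fin 2 → Fs) := Ce.symm.toAddMonoidHom.comp (QuotientAddGroup.mk' Z)
  have hψC : ∀ w, C (ψ w) = (w : W ⧸ Z) := fun w => Ce.apply_symm_apply _
  have hψs : Function.Surjective ψ := Ce.symm.surjective.comp QuotientAddGroup.mk_surjective
  have hψ0 : ∀ w, ψ w = 0 ↔ w ∈ fix P := fun w =>
    (Ce.symm.map_eq_zero_iff).trans (QuotientAddGroup.eq_zero_iff w)
  have hdec : ∀ w : W, ∃ n l, n ∈ fix A ∧ l ∈ fix (cj k A) ∧ w = n + l := fun w => by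
    obtain ⟨n, hn, l, hl, e⟩ := AddSubgroup.mem_sup.1 ((h.cards hk hkM).2.symm ▸ AddSubgroup.mem_top w)
    exact ⟨n, l, hn, hl, e.symm⟩
  have hpar : ∀ (w : W) (n : fix A) (l : fix (cj k A)), w = n + l →
      θ (ev (ψ w 0)) = (n : h.Nq) ∧ ev (ψ w 1) = (l : h.Lq k) := by
    intro w n l e
    obtain ⟨s, hs⟩ := hev.2 (θ.symm (n : h.Nq))
    obtain ⟨t, ht⟩ := hev.2 (l : h.Lq k)
    have e1 : C ![s, t] = C (ψ w) := by
      show iN (θ (ev (![s, t] 0))) + iL (ev (![s, t] 1)) = _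
      rw [Matrix.cons_val_zero, Matrix.cons_val_one, Matrix.cons_val_zero, hs, ht, θ.apply_symm_apply,
        hψC, e]
      rfl
    rw [← hC.1 e1]
    exact ⟨by rw [Matrix.cons_val_zero, hs, θ.apply_symm_apply], ht⟩
  have hAact : ∀ (a : A) (t : Fs), (t : AddMonoid.End (h.Lq k)) = jm (Additive.ofMul a) →
      ∀ w, ψ ((a : Γ W) • w) = (up t).1.mulVec (ψ w) := by
    intro a t ht w
    obtain ⟨n, l, hn, hl, rfl⟩ := hdec w
    obtain ⟨e0, e1⟩ := hpar (n + l) ⟨n, hn⟩ ⟨l, hl⟩ rfl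
    obtain ⟨f0, f1⟩ := hpar ((a : Γ W) • (n + l)) ⟨n + ((a : Γ W) • l - l),
      add_mem hn (h.sub_mem_fix a.2 l)⟩ ⟨l, hl⟩ (by
        show _ = n + ((a : Γ W) • l - l) + l
        rw [smul_add, hn a a.2]; abel)
    rw [up_mulVec]
    funext i
    fin_cases i
    · apply hev.1; apply θ.injective
      show θ (ev (ψ _ 0)) = θ (ev (ψ _ 0 + t * ψ _ 1))
      rw [f0, map_add, map_add, e0, hev_mul, e1, ht, hj]
      rfl
    · exact hev.1 (f1.trans e1.symm)
  have hBact : ∀ (b : cj k A) (t : Fs), (t : AddMonoid.End (h.Lq k)) = km (Additive.ofMul b) →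
      ∀ w, ψ ((b : Γ W) • w) = (lo t).1.mulVec (ψ w) := by
    intro b t ht w
    obtain ⟨n, l, hn, hl, rfl⟩ := hdec w
    obtain ⟨e0, e1⟩ := hpar (n + l) ⟨n, hn⟩ ⟨l, hl⟩ rfl
    obtain ⟨f0, f1⟩ := hpar ((b : Γ W) • (n + l)) ⟨n, hn⟩ ⟨((b : Γ W) • n - n) + l,
      add_mem (h.sub_mem_fix_cj b.2 n) hl⟩ (by
        show _ = n + ((b : Γ W) • n - n + l)
        rw [smul_add, hl b b.2]; abel)
    rw [lo_mulVec]
    funext i
    fin_cases i
    · exact hev.1 (θ.injective (f0.trans e0.symm))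
    · apply hev.1
      show ev (ψ _ 1) = ev (t * ψ _ 0 + ψ _ 1)
      rw [f1, map_add, hev_mul, e1, ht, hk', e0]
      rfl
  -- the homomorphism
  let S : Subgroup (Γ W) :=
    { carrier := {g | ∃ s : SL(2, Fs), ∀ w, ψ (g • w) = s.1.mulVec (ψ w)}
      one_mem' := ⟨1, fun w => by simp⟩
      mul_mem' := fun {x y} ⟨s, hs⟩ ⟨t, ht⟩ => ⟨s * t, fun w => by
        rw [mul_smul, hs, ht, Matrix.SpecialLinearGroup.coe_mul, Matrix.mulVec_mulVec]⟩
      inv_mem' := fun {x} ⟨s, hs⟩ => ⟨s⁻¹, fun w => by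
        have e := hs (x⁻¹ • w)
        rw [smul_inv_smul] at e
        rw [e, Matrix.mulVec_mulVec, ← Matrix.SpecialLinearGroup.coe_mul, inv_mul_cancel,
          Matrix.SpecialLinearGroup.coe_one, Matrix.one_mulVec]⟩ }
  have hPS : P ≤ S := by
    rw [← h.gen k hk hkM]
    exact sup_le (fun a ha => ⟨up (⟨jm (Additive.ofMul ⟨a, ha⟩), ⟨_, rfl⟩⟩ : Fs),
      hAact ⟨a, ha⟩ _ rfl⟩) (fun b hb => ⟨lo (⟨km (Additive.ofMul ⟨b, hb⟩), (hKJ.le ⟨_, rfl⟩ : _ ∈ J)⟩ : Fs),
      hBact ⟨b, hb⟩ _ rfl⟩)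
  choose s hs using fun g : P => hPS g.2
  have huniq : ∀ (g : P) (t : SL(2, Fs)), (∀ w, ψ ((g : Γ W) • w) = t.1.mulVec (ψ w)) → s g = t := by
    intro g t ht
    refine mulVec_injective fun v => ?_
    obtain ⟨w, rfl⟩ := hψs v
    exact (hs g w).symm.trans (ht w)
  let ρ : P →* SL(2, Fs) := MonoidHom.mk' s fun x y => huniq _ _ fun w => by
    rw [Subgroup.coe_mul, mul_smul, hs, hs, Matrix.SpecialLinearGroup.coe_mul, Matrix.mulVec_mulVec]
  have hup : ∀ t : Fs, up t ∈ ρ.range := fun t => by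
    obtain ⟨a, ha⟩ : (t : AddMonoid.End (h.Lq k)) ∈ J := t.2
    exact ⟨⟨(a.toMul : Γ W), h.AP a.toMul.2⟩, huniq _ _ (hAact a.toMul t ha.symm)⟩
  have hlo : ∀ t : Fs, lo t ∈ ρ.range := fun t => by
    obtain ⟨b, hb⟩ : (t : AddMonoid.End (h.Lq k)) ∈ K := hKJ ▸ t.2
    exact ⟨⟨(b.toMul : Γ W), cj_le hk h.AP b.toMul.2⟩, huniq _ _ (hBact b.toMul t hb.symm)⟩
  have hρs : Function.Surjective ρ := fun g =>
    gen_induction (· ∈ ρ.range) (one_mem _) (fun _ _ ha hb => mul_mem ha hb) hup hlo g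
  -- the kernel
  let Kc : Subgroup (Γ W) := ρ.ker.map P.subtype
  have hKc : ∀ g, g ∈ Kc → g ∈ P ∧ ∀ w, g • w - w ∈ fix P := by
    rintro _ ⟨g, hg, rfl⟩
    refine ⟨g.2, fun w => ?_⟩
    rw [← hψ0, map_sub, sub_eq_zero]
    show ψ ((g : Γ W) • w) = ψ w
    rw [hs g w, show s g = 1 from hg, Matrix.SpecialLinearGroup.coe_one, Matrix.one_mulVec]
  obtain ⟨v, hvT, hvP, -⟩ := h.vec
  have hvA : v ∈ fix A := fix_mono h.AT hvT
  have hKM : Kc ≤ M := fun g hg => h.mem_M (hKc g hg).1 hvA hvP ((hKc g hg).2 v)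
  have hKp : IsPGroup p Kc := fun g => ⟨1, Subtype.ext (ext_smul fun w => by
    obtain ⟨hgP, hz⟩ := hKc g g.2
    have hi : ∀ i : ℕ, ((g : Γ W) ^ i) • w = w + i • ((g : Γ W) • w - w) := by
      intro i
      induction i with
      | zero => simp
      | succ i ih =>
        rw [pow_succ', mul_smul, ih, smul_add, smul_nsmul', h.smul_eq_of_mem_fix hgP (hz w), succ_nsmul]
        abel
    rw [pow_one, Subgroup.coe_pow, hi, h.hp, add_zero]
    exact (one_smul _ w).symm)⟩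
  obtain ⟨m, hm, hmK⟩ := h.syl Kc hKM hKp
  have hKnorm : ∀ x ∈ P, ∀ g ∈ Kc, x⁻¹ * g * x ∈ Kc := by
    rintro x hx _ ⟨g, hg, rfl⟩
    refine ⟨⟨x, hx⟩⁻¹ * g * ⟨x, hx⟩, ?_, rfl⟩
    simpa using ρ.normal_ker.conj_mem g hg (⟨x, hx⟩⁻¹)
  have hKT : Kc ≤ T := fun g hg => by
    have := hmK (hKnorm m⁻¹ (inv_mem (h.MP hm)) g hg)
    rw [inv_inv, mem_cj] at this
    simpa [mul_assoc] using this
  have hKfix : ∀ g ∈ Kc, ∀ x ∈ P, g • x • v = x • v := fun g hg x hx => by
    have := hvT _ (hKT (hKnorm x hx g hg))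
    rw [mul_smul, mul_smul, inv_smul_eq_iff] at this
    exact this
  have hKN : ∀ g ∈ Kc, ∀ n ∈ fix A, g • n = n := fun g hg n hn => by
    obtain ⟨w, hw, hwP⟩ : ∃ w ∈ fix (cj k A), w ∉ fix P ∧ w = k • v :=
      ⟨k • v, smul_mem_fix_cj hvA, fun e => hvP (by
        have e1 : k • k • v = k • v := e k hk
        rwa [MulAction.injective k e1] at e), rfl⟩
    obtain ⟨a, ha, han⟩ := h.exists_com hk hkM hw hwP.1 hn
    have e : n = (a • w - w) - (a • w - w - n) := by abel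
    have e2 : g • a • k • v = a • k • v := by
      rw [← mul_smul a k]; exact hKfix g hg _ (mul_mem (h.AP ha) hk)
    rw [e, smul_sub, h.smul_eq_of_mem_fix (hKc g hg).1 han, smul_sub, hwP.2, hKfix g hg k hk, e2]
  have hρi : Function.Injective ρ := by
    refine (injective_iff_map_eq_one ρ).2 fun g hg => ?_
    have hgK : (g : Γ W) ∈ Kc := ⟨g, hg, rfl⟩
    apply Subtype.ext
    refine ext_smul fun w => ?_
    obtain ⟨n, l, hn, hl, rfl⟩ := hdec w
    have e := hKN _ (hKnorm k hk _ hgK) _ (mem_fix_cj.1 hl)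
    rw [mul_smul, mul_smul, smul_inv_smul, inv_smul_eq_iff, smul_inv_smul] at e
    rw [OneMemClass.coe_one, one_smul, smul_add, hKN _ hgK n hn, e]
  refine ⟨Fs, inferInstance, inferInstance, MulEquiv.ofBijective ρ ⟨hρi, hρs⟩, ψ, ?_, hψs, hψ0, hs, ?_,
    fun w => ?_, fun g hg => ⟨_, huniq g _ (hAact ⟨g, hg⟩ ⟨jm (Additive.ofMul ⟨g, hg⟩), ⟨_, rfl⟩⟩ rfl)⟩,
    fun t => ?_⟩
  · rw [← Nat.card_eq_fintype_card, hFcard]
  · refine le_antisymm (fun n hn => ?_) (sup_le ?_ h.fix_le_self)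
    · obtain ⟨w, hw, hwP⟩ := h.exists_mem_fix_cj hk
      obtain ⟨a, ha, han⟩ := h.exists_com hk hkM hw hwP hn
      have e : n = (a • w - w) - (a • w - w - n) := by abel
      rw [e]
      exact sub_mem (AddSubgroup.mem_sup_left (AddSubgroup.mem_iSup_of_mem a
        (AddSubgroup.mem_iSup_of_mem ha (com_mem a w)))) (AddSubgroup.mem_sup_right han)
    · refine iSup₂_le fun a ha => ?_
      rintro _ ⟨w, rfl⟩
      exact h.sub_mem_fix ha w
  · obtain ⟨n, l, hn, hl, rfl⟩ := hdec w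
    obtain ⟨-, e1⟩ := hpar (n + l) ⟨n, hn⟩ ⟨l, hl⟩ rfl
    constructor
    · intro hw
      have hlA : l ∈ fix A := by simpa using sub_mem hw hn
      apply hev.1
      rw [e1, map_zero]
      exact (QuotientAddGroup.eq_zero_iff _).2 (h.fix_inter_one hk hkM hlA hl)
    · intro hw
      rw [hw, map_zero] at e1
      exact add_mem hn (h.fix_le_self ((QuotientAddGroup.eq_zero_iff (⟨l, hl⟩ : fix (cj k A))).1 e1.symm))
  · obtain ⟨a, ha⟩ : (t : AddMonoid.End (h.Lq k)) ∈ J := t.2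
    exact ⟨⟨(a.toMul : Γ W), h.AP a.toMul.2⟩, a.toMul.2, huniq _ _ (hAact a.toMul t ha.symm)⟩

/-- The recognition. -/
theorem exists_coords : ∃ (F : Type v) (_ : Field F) (_ : Fintype F) (ρ : ↥P ≃* SL(2, F))
    (ψ : W →+ (Fin 2 → F)), Fintype.card F = Nat.card A ∧ Function.Surjective ψ ∧
      (∀ w, ψ w = 0 ↔ w ∈ fix P) ∧
      (∀ (g : P) (w : W), ψ ((g : Γ W) • w) = (ρ g).1.mulVec (ψ w)) ∧
      fix A = comA A ⊔ fix P := by
  obtain ⟨F, iF, fF, ρ, ψ, h1, h2, h3, h4, h5, -⟩ := h.exists_coords'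
  exact ⟨F, iF, fF, ρ, ψ, h1, h2, h3, h4, h5⟩

end CfsgLib.LocalEven.OffenderSL2.Setup
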