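import Cfsg.Agent.Lib.LocalEven.OffenderSL2.Coords

/-!
A group of automorphisms of an elementary abelian `p`-group with an offender and a subgroup `X` that
controls the fusion of its elements of order `p` (so a strongly `p`-embedded one): the offenders are
the Sylow `p`-subgroups and any two of them generate the group, so the `SL₂` setting applies.
-/

set_option autoImplicit false

namespace CfsgLib.LocalEven.OffenderSL2

open CfsgLib.LocalEven.PGV

universe v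

variable {W : Type v} [AddCommGroup W] {p : ℕ} {H X A : Subgroup (Γ W)}

/-- `A ≤ X` is a minimal offender and no nontrivial element of `A` is conjugate into `X` by an
element outside `X`. -/
structure TI (p : ℕ) (H X A : Subgroup (Γ W)) : Prop where
  hp : ∀ w : W, p • w = 0
  AX : A ≤ X
  XH : X ≤ H
  ne : X ≠ H
  el : Cfsg.IsElementaryAbelian p A
  A1 : A ≠ ⊥
  off : Nat.card W ≤ Nat.card A * Nat.card (fix A)
  strict : ∀ B ≤ A, B ≠ ⊥ → B ≠ A → Nat.card B * Nat.card (fix B) < Nat.card A * Nat.card (fix A)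
  tiA : ∀ g ∈ H, g ∉ X → ∀ a ∈ A, g⁻¹ * a * g ∈ X → a = 1

/-- `X` controls fusion of elements of order `p` in `H`, and `A ≤ X` is a minimal offender. -/
structure Embedded (p : ℕ) (H X A : Subgroup (Γ W)) : Prop where
  hp : ∀ w : W, p • w = 0
  AX : A ≤ X
  XH : X ≤ H
  ne : X ≠ H
  el : Cfsg.IsElementaryAbelian p A
  A1 : A ≠ ⊥
  off : Nat.card W ≤ Nat.card A * Nat.card (fix A)
  strict : ∀ B ≤ A, B ≠ ⊥ → B ≠ A → Nat.card B * Nat.card (fix B) < Nat.card A * Nat.card (fix A)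
  ti : ∀ g ∈ H, g ∉ X → ∀ x ∈ X, x ^ p = 1 → g⁻¹ * x * g ∈ X → x = 1
  toX : ∀ R ≤ H, IsPGroup p R → ∃ h ∈ H, R ≤ cj h X
  gen : H ≤ Subgroup.closure {r : Γ W | r ∈ H ∧ IsPGroup p (Subgroup.zpowers r)}

theorem mem_fix_cj_mul {g h : Γ W} {w : W} :
    w ∈ fix (cj (g * h) A) ↔ g⁻¹ • w ∈ fix (cj h A) := by
  rw [mem_fix_cj, mem_fix_cj, mul_inv_rev, mul_smul]

theorem card_fix_cj' (g : Γ W) : Nat.card (fix (cj g A)) = Nat.card (fix A) :=
  (Nat.card_congr
    { toFun := fun w : fix A => (⟨g • (w : W), smul_mem_fix_cj w.2⟩ : fix (cj g A))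
      invFun := fun w => ⟨g⁻¹ • (w : W), mem_fix_cj.1 w.2⟩
      left_inv := fun w => Subtype.ext (inv_smul_smul g _)
      right_inv := fun w => Subtype.ext (smul_inv_smul g _) }).symm

namespace TI

variable (h : TI p H X A)
include h

theorem AH : A ≤ H := h.AX.trans h.XH

theorem exists_outside : ∃ k ∈ H, k ∉ X :=
  SetLike.not_le_iff_exists.1 fun hle => h.ne (le_antisymm h.XH hle)

theorem not_mem_mul {a k : Γ W} (ha : a ∈ X) (hk : k ∉ X) : a * k ∉ X := fun e =>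
  hk (by simpa using mul_mem (inv_mem ha) e)

theorem conj_not_mem {g a : Γ W} (hg : g ∈ H) (hgX : g ∉ X) (ha : a ∈ A) (ha1 : a ≠ 1) :
    g⁻¹ * a * g ∉ X := fun e => ha1 (h.tiA g hg hgX a ha e)

theorem best [Finite W] : Best A := by
  intro B hB
  by_cases hB0 : B = ⊥
  · subst hB0
    refine le_trans ?_ h.off
    rw [Subgroup.card_bot, one_mul]
    exact Nat.card_le_card_of_injective _ Subtype.val_injective
  · by_cases hBA : B = A
    · rw [hBA]
    · exact (h.strict B hB hB0 hBA).le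

variable [Fact p.Prime] [Finite W]

theorem quadratic {a b : Γ W} (ha : a ∈ A) (hb : b ∈ A) (w : W) : b • (a • w - w) = a • w - w := by
  obtain ⟨e, -, hne⟩ := quad_spec h.hp h.el h.best h.A1
  have hq : quad A = A := by
    by_contra hne'
    exact absurd e (h.strict _ (quad_le A) hne hne').ne
  exact quad_fixes (hq.symm ▸ hb) ha (com_mem a w)

theorem sub_mem_fix {a : Γ W} (ha : a ∈ A) (w : W) : a • w - w ∈ fix A :=
  fun _ hb => h.quadratic ha hb w

theorem sub_mem_fix_cj {g b : Γ W} (hb : b ∈ cj g A) (w : W) : b • w - w ∈ fix (cj g A) := by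
  rw [mem_fix_cj, smul_sub]
  have e : g⁻¹ • b • w = (g⁻¹ * b * g) • g⁻¹ • w := by
    rw [← mul_smul, ← mul_smul]; congr 1; group
  rw [e]
  exact h.sub_mem_fix (mem_cj.1 hb) _

theorem mul_sub {a b : Γ W} (ha : a ∈ A) (hb : b ∈ A) (w : W) :
    (a * b) • w - w = (a • w - w) + (b • w - w) := by
  have e := h.quadratic hb ha w
  rw [smul_sub, sub_eq_iff_eq_add] at e
  rw [mul_smul, e]
  abel

theorem fix_ne_top {g : Γ W} (hg : ∀ w : W, w ∈ fix (cj g A)) : False := by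
  obtain ⟨a, ha, ha1⟩ := (Subgroup.bot_or_exists_ne_one A).resolve_left h.A1
  refine ha1 (ext_smul fun w => ?_)
  rw [one_smul]
  have h1 : g⁻¹ • g • w ∈ fix A := mem_fix_cj.1 (hg _)
  rw [inv_smul_smul] at h1
  exact h1 a ha

/-- The fixed space of an outside conjugate of `A` differs from that of `A`. -/
theorem not_fix_cj_le {g : Γ W} (hg : g ∈ H) (hgX : g ∉ X) : ¬ fix (cj g A) ≤ fix A := by
  intro hle
  have e : fix (cj g A) = fix A := AddSubgroup.eq_of_le_of_card_ge hle (card_fix_cj' g).ge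
  obtain ⟨a, ha, ha1⟩ := (Subgroup.bot_or_exists_ne_one A).resolve_left h.A1
  obtain ⟨b, hb⟩ : ∃ b, b = g * a * g⁻¹ := ⟨_, rfl⟩
  have hbA : b ∈ cj g A := hb ▸ conj_mem_cj ha
  have hab : a * b = b * a := ext_smul fun w => by
    have h1 : a • (b • w - w) = b • w - w := (e ▸ h.sub_mem_fix_cj hbA w : _ ∈ fix A) a ha
    have h2 : b • (a • w - w) = a • w - w := (e.symm ▸ h.sub_mem_fix ha w : _ ∈ fix (cj g A)) b hbA
    rw [smul_sub, sub_eq_iff_eq_add] at h1 h2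
    rw [mul_smul, mul_smul, h1, h2]
    abel
  have hbX : b ∈ X := by
    by_contra hbX
    refine h.conj_not_mem (cj_le hg h.AH hbA) hbX ha ha1 ?_
    rw [mul_assoc, hab, inv_mul_cancel_left]
    exact h.AX ha
  refine ha1 (h.tiA g⁻¹ (inv_mem hg) (fun e' => hgX (by simpa using inv_mem e')) a ha ?_)
  rw [inv_inv, ← hb]
  exact hbX

theorem inf_le_smul {g : Γ W} {a : Γ W} (ha : a ∈ A) :
    fix A ⊓ fix (cj g A) ≤ fix (cj g A) ⊓ fix (cj (a * g) A) := fun w hw => by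
  refine ⟨hw.2, mem_fix_cj_mul.2 ?_⟩
  rw [hw.1 _ (inv_mem ha)]
  exact hw.2

theorem card_inf_conj (g k : Γ W) :
    Nat.card ↥(fix (cj g A) ⊓ fix (cj (g * k) A)) = Nat.card ↥(fix A ⊓ fix (cj k A)) :=
  Nat.card_congr
    { toFun := fun w => (⟨g⁻¹ • (w : W), mem_fix_cj.1 w.2.1, mem_fix_cj_mul.1 w.2.2⟩ :
        ↥(fix A ⊓ fix (cj k A)))
      invFun := fun w => ⟨g • (w : W), smul_mem_fix_cj w.2.1, mem_fix_cj_mul.2 (by
        rw [inv_smul_smul]; exact w.2.2)⟩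
      left_inv := fun w => Subtype.ext (smul_inv_smul g _)
      right_inv := fun w => Subtype.ext (inv_smul_smul g _) }

/-- Injectivity, given the cardinality comparison for the conjugated intersection. -/
theorem eq_one_of_le {g a : Γ W} (ha : a ∈ A) {w : W} (hw : w ∈ fix (cj g A))
    (hwC : w ∉ fix A) (hc : Nat.card ↥(fix A ⊓ fix (cj (g⁻¹ * a * g) A)) ≤
      Nat.card ↥(fix A ⊓ fix (cj g A)))
    (he : a • w - w ∈ fix A ⊓ fix (cj g A)) : False := by
  have e : fix A ⊓ fix (cj g A) = fix (cj g A) ⊓ fix (cj (a * g) A) := by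
    refine AddSubgroup.eq_of_le_of_card_ge (h.inf_le_smul ha) ?_
    rw [show a * g = g * (g⁻¹ * a * g) by group, h.card_inf_conj]
    exact hc
  have h1 : a • w ∈ fix (cj g A) ⊓ fix (cj (a * g) A) := by
    refine ⟨?_, mem_fix_cj_mul.2 (by rwa [inv_smul_smul])⟩
    rw [← sub_add_cancel (a • w) w]
    exact add_mem he.2 hw
  rw [← e] at h1
  have h2 := h1.1 a⁻¹ (inv_mem ha)
  rw [inv_smul_smul] at h2
  exact hwC (h2 ▸ h1.1)

theorem card_le {g : Γ W} (hg : g ∈ H) (hgX : g ∉ X)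
    (hmax : ∀ k ∈ H, k ∉ X → Nat.card ↥(fix A ⊓ fix (cj k A)) ≤ Nat.card ↥(fix A ⊓ fix (cj g A))) :
    Nat.card A * Nat.card ↥(fix A ⊓ fix (cj g A)) ≤ Nat.card (fix A) := by
  classical
  obtain ⟨w, hw, hwN⟩ := SetLike.not_le_iff_exists.1 (h.not_fix_cj_le hg hgX)
  set C := (fix A ⊓ fix (cj g A)).addSubgroupOf (fix A)
  let f : A → ↥(fix A) ⧸ C := fun a =>
    ((⟨(a : Γ W) • w - w, h.sub_mem_fix a.2 w⟩ : fix A) : ↥(fix A) ⧸ C)
  have hf : Function.Injective f := by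
    intro a b hab
    by_contra hne
    have hab'' := QuotientAddGroup.eq.1 hab
    have hab' : -((a : Γ W) • w - w) + ((b : Γ W) • w - w) ∈ fix A ⊓ fix (cj g A) := hab''
    have e := h.mul_sub (inv_mem a.2) a.2 w
    rw [inv_mul_cancel, one_smul, sub_self] at e
    rw [neg_eq_of_add_eq_zero_left e.symm, ← h.mul_sub (inv_mem a.2) b.2] at hab'
    have hc1 : (a : Γ W)⁻¹ * b ≠ 1 := fun e' => hne (Subtype.ext (inv_mul_eq_one.1 e'))
    have hcA : (a : Γ W)⁻¹ * b ∈ A := mul_mem (inv_mem a.2) b.2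
    exact h.eq_one_of_le hcA hw hwN (hmax _ (mul_mem (mul_mem (inv_mem hg) (h.AH hcA)) hg)
      (h.conj_not_mem hg hgX hcA hc1)) hab'
  have h1 := Nat.card_le_card_of_injective f hf
  rw [AddSubgroup.card_eq_card_quotient_mul_card_addSubgroup C,
    Nat.card_congr (AddSubgroup.addSubgroupOfEquivOfLe (inf_le_left : fix A ⊓ fix (cj g A) ≤ fix A)).toEquiv]
  exact Nat.mul_le_mul_right _ h1

theorem card_ge (g : Γ W) :
    Nat.card (fix A) ≤ Nat.card A * Nat.card ↥(fix A ⊓ fix (cj g A)) := by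
  have h1 := addCard_mul (fix A) (fix (cj g A))
  rw [card_fix_cj'] at h1
  have h2 : Nat.card ↥(fix A ⊔ fix (cj g A)) ≤ Nat.card W := Nat.card_le_card_of_injective _ Subtype.val_injective
  refine Nat.le_of_mul_le_mul_left ?_ (Nat.card_pos : 0 < Nat.card (fix A))
  calc _ = _ := h1
    _ ≤ Nat.card A * Nat.card (fix A) * Nat.card ↥(fix A ⊓ fix (cj g A)) :=
        Nat.mul_le_mul_right _ (h2.trans h.off)
    _ = _ := by ring

/-- `|C_V(A)| = |A| |C_V(A) ∩ C_V(Aᵍ)|` for every `g` outside `X`. -/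
theorem card_fix {g : Γ W} (hg : g ∈ H) (hgX : g ∉ X) :
    Nat.card (fix A) = Nat.card A * Nat.card ↥(fix A ⊓ fix (cj g A)) := by
  classical
  haveI := Fintype.ofFinite (Γ W)
  obtain ⟨g', hg', hmax⟩ := (Finset.univ.filter fun k : Γ W => k ∈ H ∧ k ∉ X).exists_max_image
    (fun k => Nat.card ↥(fix A ⊓ fix (cj k A))) ⟨g, by simp [hg, hgX]⟩
  simp only [Finset.mem_filter, Finset.mem_univ, true_and] at hg' hmax
  refine le_antisymm (h.card_ge g) ?_
  exact (Nat.mul_le_mul_left _ (hmax g ⟨hg, hgX⟩)).trans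
    (h.card_le hg'.1 hg'.2 fun k hk hkX => hmax k ⟨hk, hkX⟩)

theorem card_inf_eq {g k : Γ W} (hg : g ∈ H) (hgX : g ∉ X) (hk : k ∈ H) (hkX : k ∉ X) :
    Nat.card ↥(fix A ⊓ fix (cj k A)) = Nat.card ↥(fix A ⊓ fix (cj g A)) :=
  Nat.eq_of_mul_eq_mul_left (Nat.card_pos : 0 < Nat.card A)
    ((h.card_fix hk hkX).symm.trans (h.card_fix hg hgX))

theorem sup_eq_top {g : Γ W} (hg : g ∈ H) (hgX : g ∉ X) : fix A ⊔ fix (cj g A) = ⊤ := by
  refine AddSubgroup.eq_top_of_le_card _ ?_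
  have h1 := addCard_mul (fix A) (fix (cj g A))
  rw [card_fix_cj'] at h1
  refine Nat.le_of_mul_le_mul_right ?_ (Nat.card_pos : 0 < Nat.card ↥(fix A ⊓ fix (cj g A)))
  rw [← h1]
  refine (Nat.mul_le_mul_right _ h.off).trans ?_
  rw [mul_comm (Nat.card A), mul_assoc, ← h.card_fix hg hgX]

theorem inj {g a : Γ W} (hg : g ∈ H) (hgX : g ∉ X) (ha : a ∈ A) (ha1 : a ≠ 1) {w : W}
    (hw : w ∈ fix (cj g A)) (he : a • w - w ∈ fix A ⊓ fix (cj g A)) : w ∈ fix A := by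
  by_contra hwN
  exact h.eq_one_of_le ha hw hwN (h.card_inf_eq hg hgX
    (mul_mem (mul_mem (inv_mem hg) (h.AH ha)) hg) (h.conj_not_mem hg hgX ha ha1)).le he

/-- A nontrivial element of `A` moves only fixed points of `A` into an opposite fixed space. -/
theorem key {g a : Γ W} (hg : g ∈ H) (hgX : g ∉ X) (ha : a ∈ A) (ha1 : a ≠ 1) {v : W}
    (he : a • v - v ∈ fix (cj g A)) : v ∈ fix A := by
  obtain ⟨n, hn, l, hl, rfl⟩ : ∃ n ∈ fix A, ∃ l ∈ fix (cj g A), n + l = v :=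
    AddSubgroup.mem_sup.1 (h.sup_eq_top hg hgX ▸ AddSubgroup.mem_top v)
  refine add_mem hn (h.inj hg hgX ha ha1 hl ⟨h.sub_mem_fix ha l, ?_⟩)
  rwa [smul_add, hn a ha, add_sub_add_left_eq_sub] at he

theorem opp {g k b : Γ W} (hg : g ∈ H) (hk : k ∈ H) (hgk : g⁻¹ * k ∉ X) (hb : b ∈ cj g A)
    (hb1 : b ≠ 1) {v : W} (he : b • v - v ∈ fix (cj k A)) : v ∈ fix (cj g A) := by
  rw [mem_fix_cj]
  refine h.key (mul_mem (inv_mem hg) hk) hgk (mem_cj.1 hb) (fun e => hb1 ?_) ?_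
  · have : b = g * (g⁻¹ * b * g) * g⁻¹ := by group
    rw [this, e]; group
  · rw [mem_fix_cj_mul, inv_inv, smul_sub, smul_inv_smul, mul_smul, mul_smul, smul_inv_smul,
      smul_inv_smul]
    exact he

theorem cover {k : Γ W} (hk : k ∈ H) (hkX : k ∉ X) {x : W} (hx : x ∉ fix A) :
    ∃ a ∈ A, x ∈ fix (cj (a * k) A) := by
  classical
  obtain ⟨n, hn, l, hl, rfl⟩ : ∃ n ∈ fix A, ∃ l ∈ fix (cj k A), n + l = x :=
    AddSubgroup.mem_sup.1 (h.sup_eq_top hk hkX ▸ AddSubgroup.mem_top x)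
  have hlN : l ∉ fix A := fun e => hx (add_mem hn e)
  set C := (fix A ⊓ fix (cj k A)).addSubgroupOf (fix A)
  let f : A → ↥(fix A) ⧸ C := fun a =>
    ((⟨(a : Γ W) • l - l, h.sub_mem_fix a.2 l⟩ : fix A) : ↥(fix A) ⧸ C)
  have hf : Function.Injective f := by
    intro a b hab
    by_contra hne
    have hab'' := QuotientAddGroup.eq.1 hab
    have hab' : -((a : Γ W) • l - l) + ((b : Γ W) • l - l) ∈ fix A ⊓ fix (cj k A) := hab''
    have e := h.mul_sub (inv_mem a.2) a.2 l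
    rw [inv_mul_cancel, one_smul, sub_self] at e
    rw [neg_eq_of_add_eq_zero_left e.symm, ← h.mul_sub (inv_mem a.2) b.2] at hab'
    exact hlN (h.inj hk hkX (mul_mem (inv_mem a.2) b.2) (fun e' => hne (Subtype.ext (inv_mul_eq_one.1 e'))) hl hab')
  have hcard : Nat.card A = Nat.card (↥(fix A) ⧸ C) := by
    refine Nat.eq_of_mul_eq_mul_right (Nat.card_pos : 0 < Nat.card ↥(fix A ⊓ fix (cj k A))) ?_
    rw [← h.card_fix hk hkX, AddSubgroup.card_eq_card_quotient_mul_card_addSubgroup C,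
      Nat.card_congr (AddSubgroup.addSubgroupOfEquivOfLe (inf_le_left : fix A ⊓ fix (cj k A) ≤ fix A)).toEquiv]
  obtain ⟨a, ha⟩ := ((Nat.bijective_iff_injective_and_card f).2 ⟨hf, hcard⟩).2 ((⟨n, hn⟩ : fix A) : ↥(fix A) ⧸ C)
  have ha'' := QuotientAddGroup.eq.1 ha
  have ha' : -((a : Γ W) • l - l) + n ∈ fix A ⊓ fix (cj k A) := ha''
  refine ⟨a, a.2, ?_⟩
  have e : n + l = (a : Γ W) • l + (-((a : Γ W) • l - l) + n) := by abel
  rw [e]
  refine add_mem (mem_fix_cj_mul.2 (by rwa [inv_smul_smul])) (mem_fix_cj_mul.2 ?_)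
  rw [ha'.1 _ (inv_mem a.2)]
  exact ha'.2

omit [Fact p.Prime] [Finite W] in
theorem pow_smul_sub {S : AddSubgroup W} {e : Γ W} (hS : ∀ z ∈ S, e • z = z)
    (he : ∀ w, e • w - w ∈ S) (n : ℕ) (w : W) : e ^ n • w = w + n • (e • w - w) := by
  induction n with
  | zero => simp
  | succ n ih =>
    rw [pow_succ', mul_smul, ih, smul_add, smul_nsmul', hS _ (he w), succ_nsmul]
    abel

theorem sub_mem_of_mem {x g : Γ W} (hx : x ∈ X) (hg : g ∈ cj x A) (v : W) :
    g • v - v ∈ fix A := by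
  by_contra hw
  obtain ⟨k, hk, hkX⟩ := h.exists_outside
  obtain ⟨a, ha, hwa⟩ := h.cover hk hkX hw
  have hne : g ≠ 1 := fun e => hw (by simp [e])
  have h1 := h.opp (h.XH hx) (mul_mem (h.AH ha) hk)
    (h.not_mem_mul (inv_mem hx) (h.not_mem_mul (h.AX ha) hkX)) hg hne hwa
  exact hw (by rw [h1 g hg, sub_self]; exact zero_mem _)

/-- Every outside conjugate of `A` is conjugate under `A` to a given one. -/
theorem exists_cj_eq (hnorm : ∀ y ∈ X, cj y A = A) {x k : Γ W} (hx : x ∈ H) (hxX : x ∉ X) (hk : k ∈ H) (hkX : k ∉ X) :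
    ∃ a ∈ A, cj x A = cj (a * k) A := by
  obtain ⟨b, hb, hb1⟩ := (Subgroup.bot_or_exists_ne_one A).resolve_left h.A1
  have hb' : x * b * x⁻¹ ∈ cj x A := conj_mem_cj hb
  have hb1' : x * b * x⁻¹ ≠ 1 := fun e => hb1 (conj_eq_one_iff.1 e)
  obtain ⟨v, hv⟩ : ∃ v, v ∉ fix (cj x A) := by
    by_contra hcon
    push Not at hcon
    exact h.fix_ne_top hcon
  have hw : (x * b * x⁻¹) • v - v ∉ fix A := fun e =>
    hv (h.opp hx (one_mem H) (by simpa using hxX) hb' hb1' (by rwa [cj_one]))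
  obtain ⟨a, ha, hwa⟩ := h.cover hk hkX hw
  refine ⟨a, ha, ?_⟩
  by_cases hy : x⁻¹ * (a * k) ∈ X
  · have e := hnorm _ hy
    conv_lhs => rw [← e]
    rw [← cj_mul, mul_inv_cancel_left]
  · exact absurd (h.opp hx (mul_mem (h.AH ha) hk) hy hb' hb1' hwa) hv

end TI

namespace Embedded

variable (h : Embedded p H X A)
include h

theorem toTI : TI p H X A :=
  ⟨h.hp, h.AX, h.XH, h.ne, h.el, h.A1, h.off, h.strict,
    fun g hg hgX a ha e => h.ti g hg hgX a (h.AX ha) (h.el.2 a ha) e⟩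

variable [Fact p.Prime] [Finite W]

/-- `A` is normal in `X`. -/
theorem cj_eq {x : Γ W} (hx : x ∈ X) : cj x A = A := by
  classical
  refine Subgroup.eq_of_le_of_card_ge ?_ (card_cj x A).ge
  intro r hr
  by_contra hrA
  set E := A ⊔ cj x A with hEdef
  have hE : fix E = fix A ⊓ fix (cj x A) := fix_sup _ _
  let S : Subgroup (Γ W) :=
    { carrier := {g | g ∈ E ∧ ∀ w : W, g • w - w ∈ fix E}
      one_mem' := ⟨one_mem _, fun w => by simp⟩
      mul_mem' := fun {a b} ha hb => ⟨mul_mem ha.1 hb.1, fun w => by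
        have e : (a * b) • w - w = (a • b • w - b • w) + (b • w - w) := by rw [mul_smul]; abel
        rw [e]
        exact add_mem (ha.2 _) (hb.2 w)⟩
      inv_mem' := fun {a} ha => ⟨inv_mem ha.1, fun w => by
        have e : a⁻¹ • w - w = -(a • a⁻¹ • w - a⁻¹ • w) := by rw [smul_inv_smul]; abel
        rw [e]
        exact neg_mem (ha.2 _)⟩ }
  have hES : E ≤ S := by
    refine sup_le (fun a ha => ⟨Subgroup.mem_sup_left ha, fun w => ?_⟩)
      (fun a ha => ⟨Subgroup.mem_sup_right ha, fun w => ?_⟩)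
    · rw [hE]
      refine ⟨h.toTI.sub_mem_fix ha w, mem_fix_cj.2 ?_⟩
      have h1 := h.toTI.sub_mem_of_mem (inv_mem hx) (conj_mem_cj (c := x⁻¹) ha) (x⁻¹ • w)
      rw [inv_inv, mul_smul, mul_smul, smul_inv_smul] at h1
      rw [smul_sub]
      exact h1
    · rw [hE]
      exact ⟨h.toTI.sub_mem_of_mem hx ha w, h.toTI.sub_mem_fix_cj ha w⟩
  have hfixE : ∀ f ∈ E, ∀ g ∈ E, ∀ w : W, f • (g • w - w) = g • w - w := fun f hf g hg w =>
    (hES hg).2 w f hf
  have hEp : ∀ f ∈ E, f ^ p = 1 := fun f hf => ext_smul fun w => by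
    rw [h.toTI.pow_smul_sub (S := fix E) (fun z hz => hz f hf) (hES hf).2, h.hp, add_zero, one_smul]
  have hEX : E ≤ X := sup_le h.AX (cj_le hx h.AX)
  have hbig : Nat.card A < Nat.card E := by
    by_contra hc
    have e : A = E := Subgroup.eq_of_le_of_card_ge le_sup_left (not_lt.1 hc)
    exact hrA (e ▸ Subgroup.mem_sup_right hr)
  obtain ⟨k, hk, hkX⟩ := h.toTI.exists_outside
  obtain ⟨v, hv⟩ : ∃ v, v ∉ fix (cj k A) := by
    by_contra hcon
    push Not at hcon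
    exact h.toTI.fix_ne_top hcon
  obtain ⟨a, ha, ha1⟩ := (Subgroup.bot_or_exists_ne_one A).resolve_left h.A1
  have hb : k * a * k⁻¹ ∈ cj k A := conj_mem_cj ha
  obtain ⟨j, hj⟩ : ∃ j, j = (k * a * k⁻¹) • v - v := ⟨_, rfl⟩
  have hjk : j ∈ fix (cj k A) := hj ▸ h.toTI.sub_mem_fix_cj hb v
  let φ : E → W ⧸ fix (cj k A) := fun f => (((f : Γ W) • j - j : W) : W ⧸ fix (cj k A))
  obtain ⟨f₁, f₂, hne, heq⟩ : ∃ f₁ f₂, f₁ ≠ f₂ ∧ φ f₁ = φ f₂ := by
    by_contra hcon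
    push Not at hcon
    have hinj : Function.Injective φ := fun f₁ f₂ e => by_contra fun hne => hcon f₁ f₂ hne e
    have h1 := Nat.card_le_card_of_injective φ hinj
    have h2 := h.off
    rw [AddSubgroup.card_eq_card_quotient_mul_card_addSubgroup (fix (cj k A)), card_fix_cj'] at h2
    have h3 := Nat.le_of_mul_le_mul_right h2 Nat.card_pos
    omega
  set f : Γ W := (f₁ : Γ W)⁻¹ * f₂ with hfdef
  have hf : f ∈ E := mul_mem (inv_mem f₁.2) f₂.2
  have hf1 : f ≠ 1 := fun e => hne (Subtype.ext (inv_mul_eq_one.1 e))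
  have hfj : f • j - j ∈ fix (cj k A) := by
    have heq'' := QuotientAddGroup.eq.1 heq
    have e : f • j - j = (f₁ : Γ W)⁻¹ • (((f₂ : Γ W) • j - j) - ((f₁ : Γ W) • j - j)) := by
      rw [hfdef, mul_smul, smul_sub, smul_sub, smul_sub, inv_smul_smul]; abel
    rw [e, smul_sub, hfixE _ (inv_mem f₁.2) _ f₂.2, hfixE _ (inv_mem f₁.2) _ f₁.2, ← neg_add_eq_sub]
    exact heq''
  have hfj' : f • j ∈ fix (cj k A) := by
    rw [← sub_add_cancel (f • j) j]
    exact add_mem hfj hjk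
  by_cases hX : (f * k)⁻¹ * k ∈ X
  · refine hf1 (inv_eq_one.1 (h.ti k hk hkX f⁻¹ (inv_mem (hEX hf)) ?_ ?_))
    · rw [inv_pow, hEp f hf, inv_one]
    · simpa [mul_assoc] using hX
  · have hb' : f * (k * a * k⁻¹) * f⁻¹ ∈ cj (f * k) A := by
      rw [cj_mul]
      exact conj_mem_cj hb
    have hb1 : f * (k * a * k⁻¹) * f⁻¹ ≠ 1 := fun e => ha1 (by
      have : a = k⁻¹ * (f⁻¹ * (f * (k * a * k⁻¹) * f⁻¹) * f) * k := by group
      rw [this, e]; group)
    have h1 := h.toTI.opp (mul_mem (h.XH (hEX hf)) hk) hk hX hb' hb1 (v := f • v) (by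
      rw [mul_smul, inv_smul_smul, mul_smul, ← smul_sub, ← hj]
      exact hfj')
    rw [mem_fix_cj_mul, inv_smul_smul] at h1
    exact hv h1

theorem exists_cj_eq {x k : Γ W} (hx : x ∈ H) (hxX : x ∉ X) (hk : k ∈ H) (hkX : k ∉ X) :
    ∃ a ∈ A, cj x A = cj (a * k) A :=
  h.toTI.exists_cj_eq (fun _ hy => h.cj_eq hy) hx hxX hk hkX

/-- The `p`-elements of `X` lie in `A`. -/
theorem mem_A {s : Γ W} (hs : s ∈ X) (hsp : ∃ m : ℕ, s ^ p ^ m = 1) : s ∈ A := by
  obtain ⟨k, hk, hkX⟩ := h.toTI.exists_outside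
  obtain ⟨a, ha, he⟩ := h.exists_cj_eq (mul_mem (h.XH hs) hk) (h.toTI.not_mem_mul hs hkX) hk hkX
  set t := a⁻¹ * s with ht
  have htX : t ∈ X := mul_mem (inv_mem (h.AX ha)) hs
  have hk' : k⁻¹ * t * k ∈ X := by
    by_contra hcon
    obtain ⟨b, hb, hb1⟩ := (Subgroup.bot_or_exists_ne_one A).resolve_left h.A1
    refine h.toTI.conj_not_mem (mul_mem (mul_mem (inv_mem hk) (h.XH htX)) hk) hcon hb hb1 (h.AX ?_)
    have h1 : (a * k) * b * (a * k)⁻¹ ∈ cj (s * k) A := he ▸ conj_mem_cj hb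
    have h2 := mem_cj.1 h1
    rw [ht]
    simpa [mul_assoc] using h2
  have hnorm : ∀ n : ℕ, t ^ n * (s ^ n)⁻¹ ∈ A := by
    intro n
    induction n with
    | zero => simp
    | succ n ih =>
      have e : t ^ (n + 1) * (s ^ (n + 1))⁻¹ = a⁻¹ * (s * (t ^ n * (s ^ n)⁻¹) * s⁻¹) := by
        rw [pow_succ' t, pow_succ' s, mul_inv_rev, ht]; group
      rw [e]
      have hmem : s * (t ^ n * (s ^ n)⁻¹) * s⁻¹ ∈ cj s A := conj_mem_cj ih
      rw [h.cj_eq hs] at hmem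
      exact mul_mem (inv_mem ha) hmem
  obtain ⟨m, hm⟩ := hsp
  have ht1 : t ^ p ^ (m + 1) = 1 := by
    have h1 := hnorm (p ^ m)
    rw [hm, inv_one, mul_one] at h1
    rw [pow_succ, pow_mul]
    exact h.el.2 _ h1
  have htriv : ∀ n : ℕ, t ^ p ^ n = 1 → t = 1 := by
    intro n
    induction n with
    | zero => simp
    | succ n ih =>
      intro hn
      refine ih (h.ti k hk hkX _ (pow_mem htX _) (by rw [← pow_mul, ← pow_succ, hn]) ?_)
      have e : k⁻¹ * t ^ p ^ n * k = (k⁻¹ * t * k) ^ p ^ n := by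
        have := conj_pow (i := p ^ n) (a := k⁻¹) (b := t)
        rw [inv_inv] at this
        exact this.symm
      rw [e]
      exact pow_mem hk' _
  have e := htriv _ ht1
  rw [ht, inv_mul_eq_one] at e
  exact e ▸ ha

theorem generates {k : Γ W} (hk : k ∈ H) (hkX : k ∉ X) : A ⊔ cj k A = H := by
  refine le_antisymm (sup_le h.toTI.AH (cj_le hk h.toTI.AH)) (h.gen.trans ((Subgroup.closure_le _).2 ?_))
  rintro r ⟨hr, hrp⟩
  obtain ⟨g, hg, hle⟩ := h.toX _ (Subgroup.zpowers_le.2 hr) hrp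
  have h1 : g⁻¹ * r * g ∈ X := mem_cj.1 (hle (Subgroup.mem_zpowers r))
  obtain ⟨m, hm⟩ := hrp ⟨r, Subgroup.mem_zpowers r⟩
  have hm' : r ^ p ^ m = 1 := by simpa using congrArg Subtype.val hm
  have h2 : g⁻¹ * r * g ∈ A := by
    refine h.mem_A h1 ⟨m, ?_⟩
    have e : (g⁻¹ * r * g) ^ p ^ m = g⁻¹ * r ^ p ^ m * g := by
      have := conj_pow (i := p ^ m) (a := g⁻¹) (b := r)
      rwa [inv_inv] at this
    rw [e, hm']
    group
  have h3 : r ∈ cj g A := mem_cj.2 h2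
  by_cases hgX : g ∈ X
  · rw [h.cj_eq hgX] at h3
    exact Subgroup.mem_sup_left h3
  · obtain ⟨a, ha, he⟩ := h.exists_cj_eq hg hgX hk hkX
    rw [he, cj_mul] at h3
    exact cj_le (Subgroup.mem_sup_left ha) le_sup_right h3

theorem setup : Setup p H X A A := by
  obtain ⟨k, hk, hkX⟩ := h.toTI.exists_outside
  have hpA : IsPGroup p A := fun a => ⟨1, Subtype.ext (by simpa using h.el.2 a a.2)⟩
  refine ⟨h.hp, le_rfl, h.AX, h.XH, h.ne, h.el, hpA, fun R hR hRp => ⟨1, one_mem _, ?_⟩, h.off, h.strict,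
    ?_, fun x hx hxX => h.generates hx hxX⟩
  · rw [cj_one]
    intro s hs
    obtain ⟨m, hm⟩ := hRp ⟨s, hs⟩
    exact h.mem_A (hR hs) ⟨m, by simpa using congrArg Subtype.val hm⟩
  · have hfix : ∀ g ∈ H, g ∉ X → fix A ⊓ fix (cj g A) = fix H := fun g hg hgX => by
      rw [← fix_sup, h.generates hg hgX]
    obtain ⟨v, hv, hvH⟩ : ∃ v ∈ fix A, v ∉ fix H := by
      refine SetLike.not_le_iff_exists.1 fun hle => ?_
      have e : fix A ⊓ fix (cj k A) = fix A := by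
        rw [hfix k hk hkX]; exact le_antisymm (fix_mono h.toTI.AH) hle
      have h1 := h.toTI.card_fix hk hkX
      rw [e] at h1
      have h2 : 1 < Nat.card A := (Subgroup.one_lt_card_iff_ne_bot A).2 h.A1
      nlinarith [(Nat.card_pos : 0 < Nat.card (fix A))]
    refine ⟨v, hv, hvH, fun g hg hgv => ?_⟩
    by_contra hgX
    refine hvH (hfix g hg hgX ▸ ⟨hv, mem_fix_cj.2 ?_⟩)
    rw [← hgv, inv_smul_smul]
    exact hv

end Embedded

/-- The same from any offender: a minimal one is conjugate into `X`. -/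
theorem exists_setup [Finite W] [Fact p.Prime] (hp : ∀ w : W, p • w = 0) (hXH : X ≤ H) (hne : X ≠ H)
    (hti : ∀ g ∈ H, g ∉ X → ∀ x ∈ X, x ^ p = 1 → g⁻¹ * x * g ∈ X → x = 1)
    (htoX : ∀ R ≤ H, IsPGroup p R → ∃ h ∈ H, R ≤ cj h X)
    (hgen : H ≤ Subgroup.closure {r : Γ W | r ∈ H ∧ IsPGroup p (Subgroup.zpowers r)})
    (hA : A ≤ H) (hel : Cfsg.IsElementaryAbelian p A) (hA1 : A ≠ ⊥)
    (hoff : Nat.card W ≤ Nat.card A * Nat.card (fix A)) :
    ∃ B, Setup p H X B B := by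
  classical
  haveI := Fintype.ofFinite (Subgroup (Γ W))
  obtain ⟨B, hB, hmin⟩ := (Finset.univ.filter fun B : Subgroup (Γ W) => B ≤ A ∧ B ≠ ⊥ ∧
    Nat.card W ≤ Nat.card B * Nat.card (fix B)).exists_min_image (fun B => Nat.card B)
      ⟨A, by simp [hA1, hoff]⟩
  simp only [Finset.mem_filter, Finset.mem_univ, true_and] at hB hmin
  have helB := el_mono hel hB.1
  obtain ⟨g, hg, hle⟩ := htoX B (hB.1.trans hA) fun a => ⟨1, Subtype.ext (by simpa using helB.2 a a.2)⟩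
  set B' := cj g⁻¹ B with hB'
  have hBX : B' ≤ X := fun x hx => by
    have := mem_cj.1 (hle (mem_cj.1 hx))
    simpa [mul_assoc] using this
  have hB'1 : B' ≠ ⊥ := fun e => hB.2.1 (Subgroup.card_eq_one.1 (by rw [← card_cj g⁻¹ B, ← hB', e]; simp))
  refine ⟨B', (⟨hp, hBX, hXH, hne, ?_, hB'1, ?_, ?_, hti, htoX, hgen⟩ : Embedded p H X B').setup⟩
  · refine ⟨⟨⟨fun x y => Subtype.ext ?_⟩⟩, fun x hx => ?_⟩
    · obtain ⟨b, hb, eb⟩ := x.2
      obtain ⟨c, hc, ec⟩ := y.2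
      show (x : Γ W) * y = y * x
      rw [← eb, ← ec, ← map_mul, ← map_mul, (commute_of_mem helB hb hc).eq]
    · obtain ⟨b, hb, rfl⟩ := hx
      rw [← map_pow, helB.2 b hb, map_one]
  · rw [hB', card_cj, card_fix_cj']
    exact hB.2.2
  · intro C hC hC1 hCB
    rw [hB', card_cj, card_fix_cj']
    refine lt_of_lt_of_le ?_ hB.2.2
    by_contra hnot
    have hC' : cj g C ≤ B := fun x hx => by
      have := mem_cj.1 (hC (mem_cj.1 hx))
      simpa [mul_assoc] using this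
    have h1 := hmin (cj g C) ⟨hC'.trans hB.1, fun e => hC1 (Subgroup.card_eq_one.1 (by
      rw [← card_cj g C, e]; simp)), by rw [card_cj, card_fix_cj']; omega⟩
    rw [card_cj, ← card_cj g⁻¹ B] at h1
    exact hCB (Subgroup.eq_of_le_of_card_ge hC h1)

end CfsgLib.LocalEven.OffenderSL2
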